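import Cfsg.Agent.H678.DG.Basic
import Cfsg.Agent.H417.DegMTwelve
import Cfsg.Agent.H417.RecogMTwelve
import Cfsg.Agent.H590.MElevenDeg
import Cfsg.Agent.H417.RecogMathieu
import Cfsg.Agent.H417.DegMTwentyThree
import Cfsg.Agent.H417.DegMTwentyTwo
import Cfsg.Agent.Prune
set_option linter.all false

-- part: H678/DG/Mathieu
section
set_option linter.all false
open scoped Cfsg.Agent.FastGrp

/-!
# Degree graph facts for the Mathieu groups of degrees 11 and 12 (helper678)

* `facts_m11`, `facts_m12`.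
-/

set_option autoImplicit false

namespace Cfsg.Agent.H678.DG.Mathieu

open Cfsg Cfsg.Agent.Characters.Core

universe u

theorem im_m11 {S : Type u} [Group S] [Finite S] (h : Cfsg.IsM11 S) {d : ℕ}
    (hd : d ∈ [10, 44, 45, 55]) : H671.H5.IM d S := by
  obtain ⟨e, he⟩ := H590.MElevenDeg.exists_equiv h
  have key : ∀ i : Fin 10, H671.H5.IM (H590.MElevenDeg.deg10 i) S := fun i =>
    ⟨e i, by rw [H670.PSing.charDegree_eq_of (he i)]⟩
  simp only [List.mem_cons, List.not_mem_nil, or_false] at hd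
  rcases hd with rfl | rfl | rfl | rfl
  · exact key 1
  · exact key 8
  · exact key 4
  · exact key 9

/-- The degree graph of `M11`. -/
theorem facts_m11 {S : Type u} [Group S] (h : Cfsg.Spor.IsoM11 S) : Facts S := by
  have h' := UGT.End.MEleven.isM11 h
  have : Finite S := Nat.finite_of_card_ne_zero (by rw [h'.2]; norm_num)
  refine Facts.of_list (P := [2, 3, 5, 11]) (D := [10, 44, 45, 55]) ?_ (by decide)
    (mem_of_card (f := fun _ => 5) ?_ ?_) (fun d hd => im_m11 h' hd) (by decide +kernel)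
  · intro p hp; fin_cases hp <;> norm_num
  · rw [h'.2]; decide +kernel
  · intro p hp; fin_cases hp <;> norm_num

theorem exists_120 {G : Type u} [Group G] [Finite G] (hG : Cfsg.IsM12 G) : H671.H5.IM 120 G := by
  classical
  have hs : IsSimpleGroup G := hG.1
  have hc : Nat.card G = 95040 := hG.2
  have := Fintype.ofFinite G
  have := finite_irr (G := G)
  have := Fintype.ofFinite (IrrCharacter G)
  obtain ⟨C, t, hdeg, ho, ht2, ht1, hst⟩ := H417.DegMTwelve.exists_ctx hc
    (fun P => Cfsg.Agent.MTwelve.SylowEleven.centralizer_sylow11 hc P)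
    (fun P => Cfsg.Agent.MTwelve.SylowEleven.card_normalizer_sylow11 hc P)
  have hcd : ∀ ψ : IrrCharacter G, charDegree (ψ : G → ℂ) = C.deg ψ := fun ψ => by
    rw [hdeg]
    exact Cfsg.Agent.MTwelve.ElevenMain.charDegree_eq_deg ψ
  exact ⟨C.c120, by rw [hcd, C.d120]⟩

/-- The degree graph of `M12`. -/
theorem facts_m12 {S : Type u} [Group S] (h : Cfsg.Spor.IsoM12 S) : Facts S := by
  obtain ⟨e⟩ := h
  have h12 : IsM12 Spor.M12 := ⟨CpAutTThree.MTwelve.simple, CpAutTThree.MTwelve.card⟩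
  have hcard : Nat.card Spor.M12 = 95040 := h12.2
  have : Finite Spor.M12 := Nat.finite_of_card_ne_zero (by rw [hcard]; norm_num)
  refine Facts.of_equiv e ?_
  obtain ⟨⟨d, ⟨χ, hχ⟩, hd⟩, ⟨d', ⟨χ', hχ'⟩, hd'⟩⟩ := H417.DegMTwelve.exists_both h12
  refine Facts.of_list (P := [2, 3, 5, 11]) (D := [120, 55, 33]) ?_ (by decide)
    (mem_of_card (f := fun _ => 6) ?_ ?_) ?_ (by decide +kernel)
  · intro p hp; fin_cases hp <;> norm_num
  · rw [hcard]; decide +kernel
  · intro p hp; fin_cases hp <;> norm_num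
  · intro m hm
    simp only [List.mem_cons, List.not_mem_nil, or_false] at hm
    rcases hm with rfl | rfl | rfl
    · exact exists_120 h12
    · exact ⟨χ, by rw [hχ]; exact hd⟩
    · exact ⟨χ', by rw [hχ']; exact hd'⟩

end Cfsg.Agent.H678.DG.Mathieu
end

-- part: H653/Spor/Mathieu
section
set_option linter.all false
open scoped Cfsg.Agent.FastGrp

/-!
# Degree graph facts for the large Mathieu groups (helper653)

* `facts_m22`, `facts_m23`, `facts_m24`.
-/

set_option autoImplicit false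

namespace Cfsg.Agent.H653.Spor.Mathieu

open Cfsg Cfsg.Agent.Characters.Core Cfsg.Agent.H678.DG

universe u

theorem im_m22 {S : Type u} [Group S] [Finite S] (h : Cfsg.IsM22 S) {d : ℕ}
    (hd : d ∈ [55, 99, 210, 231, 385]) : H671.H5.IM d S := by
  obtain ⟨f, hf⟩ := H417.DegMTwentyTwo.exists_enum h
  have key : ∀ i : Fin 12, H671.H5.IM (M22.DegreesEnd.LB.getD i 0) S := fun i => ⟨f i, by rw [hf i]⟩
  have h2 : ∀ d ∈ [55, 99, 210, 231, 385], ∃ i : Fin 12, M22.DegreesEnd.LB.getD i 0 = d := by decide +kernel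
  obtain ⟨i, hi⟩ := h2 d hd
  rw [← hi]
  exact key i

/-- The degree graph of `M22`. -/
theorem facts_m22 {S : Type u} [Group S] (h : Cfsg.Spor.IsoM22 S) : Facts S := by
  have h' := H417.RecogMathieu.isM22 h
  have : Finite S := Nat.finite_of_card_ne_zero (by rw [h'.2]; norm_num)
  refine Facts.of_list (P := [2, 3, 5, 7, 11]) (D := [55, 99, 210, 231, 385]) ?_ (by decide)
    (mem_of_card (f := fun _ => 7) ?_ ?_) (fun d hd => im_m22 h' hd) (by decide +kernel)
  · intro p hp; fin_cases hp <;> norm_num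
  · rw [h'.2]; decide +kernel
  · intro p hp; fin_cases hp <;> norm_num

theorem im_m23 {S : Type u} [Group S] [Finite S] (h : Cfsg.IsM23 S) {d : ℕ}
    (hd : d ∈ [230, 45, 1035, 231, 2024, 896]) : H671.H5.IM d S := by
  obtain ⟨hs, H, z, v, a, b, c, d, g, h, b₁, c₁, K⟩ := H417.DegMTwentyThree.exists_elev' h
  have key : ∀ (χ : IrrCharacter S) (n : ℕ), M23Order.Base.dg χ = n → H671.H5.IM n S :=
    fun χ n hn => ⟨χ, by rw [← hn]; exact dvd_rfl⟩
  simp only [List.mem_cons, List.not_mem_nil, or_false] at hd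
  rcases hd with rfl | rfl | rfl | rfl | rfl | rfl
  · exact key _ _ K.dga
  · exact key _ _ K.dgb
  · exact key _ _ K.dgd
  · exact key _ _ K.dgg
  · exact key _ _ K.dgh
  · exact key _ _ K.dgb₁

/-- The degree graph of `M23`. -/
theorem facts_m23 {S : Type u} [Group S] (h : Cfsg.Spor.IsoM23 S) : Facts S := by
  have h' := H417.RecogMathieu.isM23 h
  have : Finite S := Nat.finite_of_card_ne_zero (by rw [h'.2]; norm_num)
  refine Facts.of_list (P := [2, 3, 5, 7, 11, 23]) (D := [230, 45, 1035, 231, 2024, 896]) ?_ (by decide)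
    (mem_of_card (f := fun _ => 7) ?_ ?_) (fun d hd => im_m23 h' hd) (by decide +kernel)
  · intro p hp; fin_cases hp <;> norm_num
  · rw [h'.2]; decide +kernel
  · intro p hp; fin_cases hp <;> norm_num

theorem im_m24 {S : Type u} [Group S] [Finite S] (h : Cfsg.IsM24 S) {d : ℕ}
    (hd : d ∈ [1035, 5796, 1771, 2024, 5544, 990]) : H671.H5.IM d S := by
  have := h.1
  obtain ⟨H⟩ := M24Order.Final.exists_hyp h.2
  have : Fact (Nat.Prime 5) := ⟨by norm_num⟩
  have : Fact (Nat.Prime 7) := ⟨by norm_num⟩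
  obtain ⟨R⟩ : Nonempty (Sylow 5 S) := inferInstance
  obtain ⟨T⟩ : Nonempty (Sylow 7 S) := inferInstance
  obtain ⟨K, M, B, ε, a, b, c, d, h5, ⟨K', M', D, a', h7⟩ | ⟨K', M', B', ε', l', h7⟩⟩ :=
    SporadicA.M24.Convert.exists_blocks H R T
  · obtain ⟨t, v, Θ, Θ', L⟩ := M24Order.ToLast.exists_last H h5 h7
    have key : ∀ (χ : IrrCharacter S) (n : ℕ), M23Order.Base.dg χ = n → H671.H5.IM n S :=
      fun χ n hn => ⟨χ, by rw [← hn]; exact dvd_rfl⟩
    simp only [List.mem_cons, List.not_mem_nil, or_false] at hd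
    rcases hd with rfl | rfl | rfl | rfl | rfl | rfl
    · exact key _ _ L.d1035
    · exact key _ _ L.d5796
    · exact key _ _ L.d1771
    · exact key _ _ L.d2024
    · exact key _ _ L.d5544
    · exact key _ _ L.d990
  · exact (S0422.six_false (SporadicA.M24.Convert.conv H) h5 h7).elim

/-- The degree graph of `M24`. -/
theorem facts_m24 {S : Type u} [Group S] (h : Cfsg.Spor.IsoM24 S) : Facts S := by
  have h' := H417.RecogMathieu.isM24 h
  have : Finite S := Nat.finite_of_card_ne_zero (by rw [h'.2]; norm_num)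
  refine Facts.of_list (P := [2, 3, 5, 7, 11, 23]) (D := [1035, 5796, 1771, 2024, 5544, 990]) ?_ (by decide)
    (mem_of_card (f := fun _ => 10) ?_ ?_) (fun d hd => im_m24 h' hd) (by decide +kernel)
  · intro p hp; fin_cases hp <;> norm_num
  · rw [h'.2]; decide +kernel
  · intro p hp; fin_cases hp <;> norm_num

end Cfsg.Agent.H653.Spor.Mathieu
end
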