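import Cfsg.Agent.H315.Eight.RowJ3
import Cfsg.Agent.H653.Sieve.Graph
import Cfsg.Agent.Lib.SieveFast
import Cfsg.Agent.Prune
set_option linter.all false
open scoped Cfsg.Agent.FastGrp

/-!
# The degree graph of `J₃` is complete (helper653)

From the columns of the character table at the elements of even order (`H417.JThreeLP.Hyp`) by linear programming.
-/

set_option autoImplicit false
set_option maxRecDepth 100000

namespace Cfsg.Agent.H653.Spor.J3

open Cfsg Cfsg.Agent.H417.JThreeLP Cfsg.Agent.H653.Graph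

universe u

variable {ι : Type*} [Fintype ι]

theorem adj {V : ι → Fin 8 → ℤ} (h : Hyp V) (m : ℤ) (y : List ℤ)
    (h1 : ((vecs.filter fun l => !(l.getD 0 0 % m == 0)).all fun l => decide (0 ≤ dot y (feat (fn l)))) = true)
    (h2 : dot y tgt < 0) : ∃ χ, m ∣ V χ 0 := by
  by_contra hno
  push Not at hno
  refine leaf h (vecs.filter fun l => !(l.getD 0 0 % m == 0)) ?_ y [] (by simp) ?_ (by simpa [exb] using h2)
  · intro χ
    obtain ⟨l, hl, hv⟩ := h.mem χ
    refine ⟨l, ?_, hv⟩
    rw [List.mem_filter]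
    refine ⟨hl, ?_⟩
    have h3 := hno χ
    rw [hv] at h3
    have h4 : fn l 0 = l.getD 0 0 := rfl
    rw [h4] at h3
    rw [Bool.not_eq_true', beq_eq_false_iff_ne]
    intro h5
    exact h3 (Int.dvd_of_emod_eq_zero h5)
  · intro l hl
    have h3 := List.all_eq_true.1 h1 l hl
    rw [decide_eq_true_eq] at h3
    simpa [exv] using h3

private def Y : List (ℤ × List ℤ) := [
  (6, [2, -55, 13657, 34014, -29797, 38940, -295, -660, -4871, -67563, -6958985, -75464, 14653853, 12513566, -106723, -97424, -40503825, -337487, 60135053, 63015080, -6039073, -389696, -674974, -8273021, 91606453, 97260, -1169089, 200081872, 185881771, -19696169, -779393, -603715, -11534411, -467636, -1045665, -2338179, -9352715, -5841402, -4676358, -1039191, -4676358]),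
  (10, [1, 3714, 18013, 7277, 37838, -1314, -11595, 0, -191408, -6679945, -19197296, -2965287, 22061555, -6881456, -4193549, -27337434, -98030297, -63325536, 107923186, -5161911, -20967744, -5467559, -178141357, -34926, 179234534, 0, -649870, 247533676, -24072903, -41935488, 10252273, -155129006, 0, 112912174, 33548391, 3625954, -367504208, -5081316, 685064648, -40833801, -2541150]),
  (34, [0, 108, 401, 110, 724, 130, -129, 0, -2133, -21591, 3844, -33051, 69807, 130176, -46741, 28876, -114602, -147808, 4860, 181346, -233704, -99562, 97794, 251317, -66089, 0, 172403, 726900, 1133396, -467409, 442574, -264406, 0, 46469, 373927, -817891, -4096164, 482298, -2048082, -181697, -284509]),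
  (38, [-1, 681, 5086, -3032, 13700, 3752, 14566, 0, -140850, -781046, -1133715, -822474, 1253203, 421563, -1163154, -89490, -3882782, 12349604, 7625264, 4149929, -5815771, 3086084, -7356433, 2479761, 11564142, 0, 29074768, 15631628, -10545814, -11631542, -1311859, -5850461, 0, 9735878, 9305233, -25043459, -101933725, -12741716, -50966863, 20222232, 9646499]),
  (15, [0, -106, -627, 937, -6045, 1434, 641, 0, -17090, -165608, -133599, -264763, 724923, 216083, -374431, -341807, -1151758, -1184055, 2165366, 584773, -1872155, -78434, 1451748, 2087680, 3357958, 0, -1032940, 10077166, 3562491, -3744311, 2699078, -2118102, 0, 2221646, 2995449, -1076975, -32813495, 1533668, -16406747, -3645944, 1227784]),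
  (51, [1, 576, 1734, 4049, 18384, 5212, -884, 0, -14601, -120668, 2696311, -226196, -1605789, 2230536, -319889, -292017, 6357510, -1011578, -6598066, -1042992, -1430587, -1168069, 32846579, 7780167, -10212171, 168858, 2550855, 6347395, 1263308, -3030032, 11915246, 4148692, 168858, -6570907, 2221396, 5896405, -28033666, 11155745, -14016833, -9098464, 2642463]),
  (57, [4, 7992, 32776, -14411, 260107, 72578, 73188, 0, 180795, 708596, 5328091, -2214848, -1771312, 2264444, -2199740, -711771, 21788052, -29428334, -10258398, 13698647, -9837534, 48794348, -13912375, 48771531, -33887515, 1161163, -24096940, -59782855, 121324154, -20836232, -14301731, 31851296, 1161163, -9638776, 15275590, 31265034, -192775516, -14070500, -510519539, 5300798, 20710515]),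
  (85, [-65, -7824, 3312, 56205, -445233, -56205, -69786, 0, 2278350, 7700258, -10736636, 9531269, 30076915, -1471979, -27725763, -25310043, -23675949, -80959428, 120377339, 46109915, -152259952, -118052893, 90991901, 29071869, 213246395, -13631136, -303720520, 516478714, 486975643, -290888769, 88981024, 18836943, -13631136, 81948883, 249068378, 388487363, -2429764162, 388487363, 687073464, -146355350, 311005119]),
  (95, [1, -16276, -16276, 65104, -97656, 65104, 0, 0, -16335580, -150264436, -28035321, -215764653, 19953724, -34522007, -31379938, -343127995, -87594141, -989988629, 246795530, -205943368, -306899691, -50000000, -175014671, 247222222, 300845070, -150000000, -343750000, 527098004, -666910210, -463799382, 202777778, -177511737, -150000000, 1368528168, 551039506, 0, -2750000000, 0, 20550352101, 0, 0]),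
  (323, [0, 550, 2386, 25429, 107774, -1554, 21290, -19896, -19871, -1562782, 2002510, -1366763, 344912, 2692401, -435352, -397420, -51228, -8044232, -2223365, -2832310, -8984509, -1740724, -2753407, 7475209, -57240, -3893905, -4769041, -3893905, 28896695, -32371698, 16997363, -7295285, -3893905, -1907616, 16740194, -9538081, -38152326, 4492203, -19076163, -1692354, 11160593])]

private theorem dot_eq : ∀ a b : List ℤ, dot a b = Sieve.dot a b
  | [], _ => rfl
  | _ :: _, [] => rfl
  | a :: s, b :: t => congrArg (a * b + ·) (dot_eq s t)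

private theorem hY : ((vecs.all fun l => SieveFast.fL (feat (fn l)) fun f => Y.all fun x => l.getD 0 0 % x.1 == 0 ||
    SieveFast.dotA x.2 f (fun p n => Nat.ble n p) 0 0) && Y.all fun x => decide (dot x.2 tgt < 0)) = true := by
  decide +kernel

private theorem key {V : ι → Fin 8 → ℤ} (h : Hyp V) (m : ℤ) (hm : m ∈ Y.map Prod.fst) : ∃ χ, m ∣ V χ 0 := by
  obtain ⟨x, hx, rfl⟩ := List.mem_map.1 hm
  obtain ⟨h1, h2⟩ := Bool.and_eq_true_iff.1 hY
  refine adj h x.1 x.2 (List.all_eq_true.2 fun l hl => decide_eq_true ?_) (of_decide_eq_true (List.all_eq_true.1 h2 x hx))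
  obtain ⟨h3, h4⟩ := List.mem_filter.1 hl
  have h5 := List.all_eq_true.1 h1 l h3
  rw [SieveFast.fL_eq] at h5
  rw [Bool.not_eq_true'] at h4
  have h6 := List.all_eq_true.1 h5 x hx
  rw [h4, Bool.false_or] at h6
  obtain ⟨p, n, h7, h8⟩ := SieveFast.dotA_ex h6
  have h9 := Nat.le_of_ble_eq_true h7
  rw [dot_eq]
  omega

theorem adj_2_3 {V : ι → Fin 8 → ℤ} (h : Hyp V) : ∃ χ, (6 : ℤ) ∣ V χ 0 :=
  key h 6 (by decide +kernel)

theorem adj_2_5 {V : ι → Fin 8 → ℤ} (h : Hyp V) : ∃ χ, (10 : ℤ) ∣ V χ 0 :=
  key h 10 (by decide +kernel)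

theorem adj_2_17 {V : ι → Fin 8 → ℤ} (h : Hyp V) : ∃ χ, (34 : ℤ) ∣ V χ 0 :=
  key h 34 (by decide +kernel)

theorem adj_2_19 {V : ι → Fin 8 → ℤ} (h : Hyp V) : ∃ χ, (38 : ℤ) ∣ V χ 0 :=
  key h 38 (by decide +kernel)

theorem adj_3_5 {V : ι → Fin 8 → ℤ} (h : Hyp V) : ∃ χ, (15 : ℤ) ∣ V χ 0 :=
  key h 15 (by decide +kernel)

theorem adj_3_17 {V : ι → Fin 8 → ℤ} (h : Hyp V) : ∃ χ, (51 : ℤ) ∣ V χ 0 :=
  key h 51 (by decide +kernel)

theorem adj_3_19 {V : ι → Fin 8 → ℤ} (h : Hyp V) : ∃ χ, (57 : ℤ) ∣ V χ 0 :=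
  key h 57 (by decide +kernel)

theorem adj_5_17 {V : ι → Fin 8 → ℤ} (h : Hyp V) : ∃ χ, (85 : ℤ) ∣ V χ 0 :=
  key h 85 (by decide +kernel)

theorem adj_5_19 {V : ι → Fin 8 → ℤ} (h : Hyp V) : ∃ χ, (95 : ℤ) ∣ V χ 0 :=
  key h 95 (by decide +kernel)

theorem adj_17_19 {V : ι → Fin 8 → ℤ} (h : Hyp V) : ∃ χ, (323 : ℤ) ∣ V χ 0 :=
  key h 323 (by decide +kernel)

theorem clauses {S : Type u} [Group S] [Finite S] (h : Spor.IsoJ3 S) :
    ∀ c ∈ ([[6], [10], [34], [38], [15], [51], [57], [85], [95], [323]] : List (List ℕ)), Cl S c := by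
  classical
  have := Cfsg.Agent.Characters.Core.finite_irr (G := S)
  have := Fintype.ofFinite (IrrCharacter S)
  obtain ⟨V, hV, H⟩ := H417.JThreeDeg.hyp h
  have key : ∀ m : ℕ, (∃ χ, (m : ℤ) ∣ V χ 0) → Cl S [m] := by
    rintro m ⟨χ, hχ⟩
    refine ⟨m, by simp, χ, ?_⟩
    rw [hV χ] at hχ
    exact_mod_cast hχ
  intro c hc
  simp only [List.mem_cons, List.not_mem_nil, or_false] at hc
  rcases hc with rfl | rfl | rfl | rfl | rfl | rfl | rfl | rfl | rfl | rfl
  · exact key 6 (adj_2_3 H)
  · exact key 10 (adj_2_5 H)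
  · exact key 34 (adj_2_17 H)
  · exact key 38 (adj_2_19 H)
  · exact key 15 (adj_3_5 H)
  · exact key 51 (adj_3_17 H)
  · exact key 57 (adj_3_19 H)
  · exact key 85 (adj_5_17 H)
  · exact key 95 (adj_5_19 H)
  · exact key 323 (adj_17_19 H)

theorem facts (S : Type u) [Group S] [Finite S] (h : Spor.IsoJ3 S) : GraphFacts S := by
  have hc : Nat.card S = 50232960 := (H898.J3Cent.base h).2.1
  refine Graph.facts [2, 3, 5, 17, 19] (by norm_num) (by decide) ?_ _ (clauses h) (by decide) (by decide) (by decide)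
    (by decide) (by decide)
  intro p hp hd
  rw [hc, show 50232960 = 2 ^ 7 * 3 ^ 5 * 5 * 17 * 19 by norm_num] at hd
  simp only [hp.dvd_mul] at hd
  have h2 : ∀ q n : ℕ, q.Prime → p ∣ q ^ n → p = q := fun q n hq h => (Nat.prime_dvd_prime_iff_eq hp hq).1 (hp.dvd_of_dvd_pow h)
  have h3 : ∀ q : ℕ, q.Prime → p ∣ q → p = q := fun q hq h => (Nat.prime_dvd_prime_iff_eq hp hq).1 h
  simp only [List.mem_cons, List.not_mem_nil, or_false]
  rcases hd with (((hd | hd) | hd) | hd) | hd
  · exact Or.inl (h2 2 7 (by norm_num) hd)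
  · exact Or.inr (Or.inl (h2 3 5 (by norm_num) hd))
  · exact Or.inr (Or.inr (Or.inl (h3 5 (by norm_num) hd)))
  · exact Or.inr (Or.inr (Or.inr (Or.inl (h3 17 (by norm_num) hd))))
  · exact Or.inr (Or.inr (Or.inr (Or.inr (h3 19 (by norm_num) hd))))

end Cfsg.Agent.H653.Spor.J3
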