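import Cfsg.Agent.H570.Ore.Blk_m3
import Cfsg.Agent.H161.Rec.Fi24Facts
import Cfsg.Agent.H30.GraphFi24A
import Cfsg.Agent.H714.DG.CoTwoX
import Cfsg.Agent.H843.IMC.Co3A
import Cfsg.Agent.H843.IMC.Co2B
import Cfsg.Agent.H843.IMC.Co2C
import Cfsg.Agent.H215.CC.LyThirtySeven
import Cfsg.Agent.H655.LyThirtySeven
import Cfsg.Agent.H314.LyOrb.Deg
import Cfsg.Agent.H314.IMLy
import Cfsg.Agent.H678.DG.Basic
import Cfsg.Agent.H714.DG.Top_m3
import Cfsg.Agent.H852.IMMathieu2
import Cfsg.Agent.GolayOrbit.Flags
import Cfsg.Agent.H870.IMRu_m3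
import Cfsg.Agent.H436.TwoRu
import Cfsg.Agent.Prune
set_option linter.all false

section
prune_inst 0x7ffffffdffafffffdfff7e3fffdffffbf3ebefffe6dff9cbffebebbfffff7bf7e9edfbad0fefb9feced7e2b610fc7bc3fbfffeffee6ffc7ffffdfff45ffbffcffdf7bf0951d68c341fbe2fff63f17f8e6f3ffffffffffffffffffffffffffffffffffbfeffff

-- part: H653/Spor/Fi24Cert
section
prune_inst 0x4010000
set_option linter.all false
open scoped Cfsg.Agent.FastGrp

/-!
# The degree graph of Fi24prime: certificates (helper653)
-/

set_option autoImplicit false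
set_option Elab.async false
set_option maxRecDepth 100000
set_option maxHeartbeats 4000000
set_option linter.unusedSectionVars false

namespace Cfsg.Agent.H653.Spor.Fi24

open Cfsg Cfsg.Agent.Characters.Core Cfsg.Agent.H653.Sys Cfsg.Agent.H653.Sieve Cfsg.Agent.H653.Graph
open Cfsg.Agent.H653.Fast
open Cfsg.Agent.H590.NB.Fast (maskOK pre)

universe u

def L : List (ℕ × ℕ) := [(29, 1), (23, 1), (17, 1), (13, 1), (11, 1), (7, 3), (5, 2), (3, 16), (2, 21)]

def Ds : List PD := [⟨29, 1, 14, 2, [(0, 0), (1, 2), (14, -1), (15, 1), (28, -2)], 58, 2, true⟩,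
  ⟨23, 1, 11, 2, [(0, 0), (1, 2), (11, -1), (12, 1), (22, -2)], 46, 2, true⟩,
  ⟨17, 1, 16, 1, [(0, 0), (1, 1), (16, -1)], 17, 0, false⟩]

def Cs : List Cond := [condEq 57477, condEq 249458, condDv 5, condDv 13]

/-- the admissible residues -/
def Ms : List (ℕ × ℕ) := [(29, 268484611), (23, 4200451), (17, 65539)]

/-- the certificates -/
def Cts : List Cert := [⟨[6, 14, 15, 26, 87, 221, 299], 0,
    [⟨0, 0, 25104114183813234426, [4184019030635539071, 0]⟩, ⟨0, 0, 8368038061271078142, [8368038061271078142]⟩, ⟨0, 0, 0, []⟩],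
    [0, 0, 0, -46024209336990929781]⟩,
  ⟨[26, 65, 91, 221, 377], 0,
    [⟨0, 0, 0, [0, 0]⟩, ⟨0, 0, 0, [0]⟩, ⟨0, 0, 0, []⟩],
    [0, 0, 0, -12552057091906617213]⟩,
  ⟨[15, 26, 35, 115, 145], 0,
    [⟨0, 0, 0, [0, 0]⟩, ⟨0, 0, 0, [0]⟩, ⟨0, 0, 0, []⟩],
    [0, 0, -12552057091906617213, 0]⟩,
  ⟨[10, 39, 85, 115, 145], 0,
    [⟨0, 0, 0, [0, 0]⟩, ⟨0, 0, 0, [0]⟩, ⟨0, 0, 0, []⟩],
    [0, 0, -12552057091906617213, 0]⟩,
  ⟨[26, 39, 299, 377], 0,
    [⟨0, 0, 0, [0, 0]⟩, ⟨0, 0, 0, [0]⟩, ⟨0, 0, 0, []⟩],
    [0, 0, 0, -12552057091906617213]⟩,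
  ⟨[10, 15, 35, 115], 0,
    [⟨0, 0, 0, [0, 0]⟩, ⟨0, 0, 0, [0]⟩, ⟨0, 0, 0, []⟩],
    [0, 0, -12552057091906617213, 0]⟩]

theorem hMs : maskOK Ds Ms = true := by decide +kernel

theorem hHead : headOK 1255205709190661721292800 Ds Cs Cts = true := by decide +kernel

/-! The search over the degrees: each clause on its own; the multiples of the numbers of the clause are skipped. -/

private def powP (cut g : ℕ → Bool) (p a : ℕ) : ℕ → Bool :=
  Nat.rec (motive := fun _ => ℕ → Bool) g
    (fun _ ih d => bif g d then (bif cut (Nat.mul d p) then true else ih (Nat.mul d p)) else false) a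

private def divP (cut f : ℕ → Bool) (L : List (ℕ × ℕ)) : ℕ → Bool :=
  List.rec (motive := fun _ => ℕ → Bool) f (fun pa _ ih => powP cut ih pa.1 pa.2) L

private theorem powP_spec {cut g : ℕ → Bool} {p : ℕ} : ∀ (a d : ℕ), powP cut g p a d = true → ∀ i, i ≤ a →
    g (d * p ^ i) = true ∨ ∃ e k, cut e = true ∧ d * p ^ i = e * p ^ k
  | 0, d, h, i, hi => by
    obtain rfl : i = 0 := Nat.le_zero.1 hi
    rw [Nat.pow_zero, Nat.mul_one]
    exact Or.inl h
  | a + 1, d, h, i, hi => by
    have h' : (bif g d then (bif cut (d * p) then true else powP cut g p a (d * p)) else false) = true := h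
    cases hg : g d with
    | false => rw [hg] at h'; exact Bool.noConfusion h'
    | true =>
      rw [hg, cond_true] at h'
      cases i with
      | zero => rw [Nat.pow_zero, Nat.mul_one]; exact Or.inl hg
      | succ i =>
        have e : d * p ^ (i + 1) = d * p * p ^ i := by rw [Nat.pow_succ, Nat.mul_comm (p ^ i), Nat.mul_assoc]
        rw [e]
        cases hc : cut (d * p) with
        | true => exact Or.inr ⟨d * p, i, hc, rfl⟩
        | false =>
          rw [hc, cond_false] at h'
          exact powP_spec a (d * p) h' i (Nat.le_of_succ_le_succ hi)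

private theorem divP_spec {cut f : ℕ → Bool} (hc : ∀ e k, cut e = true → 0 < k → f (e * k) = true) :
    ∀ (L : List (ℕ × ℕ)), (L.all fun pa => Nat.Prime pa.1) = true → ∀ d, divP cut f L d = true →
      ∀ k, k ∣ facProd L → 0 < k → f (d * k) = true
  | [], _, d, h, k, hk, _ => by
    obtain rfl : k = 1 := Nat.dvd_one.1 hk
    rw [Nat.mul_one]
    exact h
  | (p, a) :: L, hL, d, h, k, hk, h0 => by
    rw [List.all_cons, Bool.and_eq_true, decide_eq_true_eq] at hL
    obtain ⟨x, y, hx, hy, rfl⟩ := (Nat.dvd_mul).1 hk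
    obtain ⟨i, hi, rfl⟩ := (Nat.dvd_prime_pow hL.1).1 hx
    have hy0 : 0 < y := Nat.pos_of_mul_pos_left h0
    rw [← Nat.mul_assoc]
    rcases powP_spec a d h i hi with h1 | ⟨e, j, h1, h2⟩
    · exact divP_spec hc L hL.2 _ h1 y hy hy0
    · rw [h2, Nat.mul_assoc]
      exact hc e _ h1 (Nat.mul_pos (Nat.pow_pos hL.1.pos) hy0)

private theorem allPow_conv {N : ℕ} {f : ℕ → Bool} {p : ℕ} : ∀ (a d : ℕ), (∀ i, i ≤ a → f (d * p ^ i) = true) →
    allPow N f p a d = true
  | 0, d, h => by
    have := h 0 (Nat.le_refl 0)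
    rw [Nat.pow_zero, Nat.mul_one] at this
    exact this
  | a + 1, d, h => by
    have h0 := h 0 (Nat.zero_le _)
    rw [Nat.pow_zero, Nat.mul_one] at h0
    have h1 : allPow N f p a (d * p) = true := allPow_conv a (d * p) fun i hi => by
      have := h (i + 1) (Nat.succ_le_succ hi)
      rwa [Nat.pow_succ, Nat.mul_comm (p ^ i), ← Nat.mul_assoc] at this
    show (bif Nat.ble N (d * d) then true else (f d && allPow N f p a (d * p))) = true
    rw [h0, h1]
    cases Nat.ble N (d * d) <;> rfl

private theorem allDiv_conv {N : ℕ} {f : ℕ → Bool} : ∀ (L : List (ℕ × ℕ)) (d : ℕ),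
    (∀ k, k ∣ facProd L → f (d * k) = true) → allDiv N f L d = true
  | [], d, h => by
    have := h 1 (Nat.dvd_refl 1)
    rw [Nat.mul_one] at this
    exact this
  | (p, a) :: L, d, h => allPow_conv a d fun i hi => allDiv_conv L _ fun k hk => by
    rw [Nat.mul_assoc]
    exact h _ (Nat.mul_dvd_mul (Nat.pow_dvd_pow p hi) hk)

private theorem allV_true : ∀ (Fs : List Fam) (d : ℕ) (k : List ℤ → Bool), (∀ ws, k ws = true) → Sys.allV Fs d k = true
  | [], _, _, h => h []
  | F :: Fs, d, k, h => by
    rw [Sys.allV, List.all_eq_true]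
    exact fun u _ => allV_true Fs d _ fun v => h _

private def leaf (ct : Cert) (d : ℕ) : Bool :=
  bif pre Ms d then Sys.okD 1255205709190661721292800 ct.a ct.cs (exOf Cs ct.ms) (Ds.map PD.fam) ct.Q d else true

private def cut (ct : Cert) (e : ℕ) : Bool := bif ct.Q e then true else Nat.ble 1255205709190661721292800 (Nat.mul e e)

private theorem leaf_of {ct : Cert} {d : ℕ} (h : Nat.ble 1255205709190661721292800 (d * d) = true ∨
    ∀ ws, (bif ct.Q d then true else decide (0 ≤ ct.a * d * d + Sieve.quad d ct.cs ws + Sys.exSum d (exOf Cs ct.ms))) = true) :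
    leaf ct d = true := by
  rw [leaf, Sys.okD]
  rcases h with h | h
  · rw [h]
    cases pre Ms d <;> rfl
  · rw [allV_true _ _ _ h]
    cases pre Ms d <;> cases Nat.ble 1255205709190661721292800 (d * d) <;> cases Nat.beq d 1 <;> rfl

private theorem leaf_cut (ct : Cert) (e k : ℕ) (h : cut ct e = true) (hk : 0 < k) : leaf ct (e * k) = true := by
  rw [cut] at h
  cases hq : ct.Q e with
  | true =>
    refine leaf_of (Or.inr fun ws => ?_)
    have h1 : ct.Q (e * k) = true := by
      rw [Cert.Q, List.any_eq_true] at hq ⊢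
      obtain ⟨m, hm, h1⟩ := hq
      refine ⟨m, hm, ?_⟩
      rw [Nat.mod_eq_zero_of_dvd (Nat.dvd_mul_right_of_dvd (Nat.dvd_of_mod_eq_zero (Nat.eq_of_beq_eq_true h1)) k)]
      rfl
    rw [h1, cond_true]
  | false =>
    rw [hq, cond_false] at h
    have h1 : e ≤ e * k := Nat.le_mul_of_pos_right e hk
    exact leaf_of (Or.inl (Nat.ble_eq_true_of_le (Nat.le_trans (Nat.le_of_ble_eq_true h) (Nat.mul_le_mul h1 h1))))

private theorem leaf_all (ct : Cert) (q : ℕ) (M : List (ℕ × ℕ)) (hq : 0 < q) (hM : (M.all fun pa => Nat.Prime pa.1) = true)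
    (hN : q * facProd M = 1255205709190661721292800) (h : divP (cut ct) (leaf ct) M q = true) (d : ℕ)
    (hd : d ∣ 1255205709190661721292800) (hqd : d % q = 0) : leaf ct d = true := by
  obtain ⟨k, rfl⟩ := Nat.dvd_of_mod_eq_zero hqd
  have hk : 0 < k := Nat.pos_of_mul_pos_left (Nat.pos_of_dvd_of_pos hd (by decide))
  rw [← hN] at hd
  exact divP_spec (leaf_cut ct) M hM q h k (Nat.dvd_of_mul_dvd_mul_left hq hd) hk

private def cs0 : List Cf := [⟨0, 0, 0, [0, 0]⟩, ⟨0, 0, 0, [0]⟩, ⟨0, 0, 0, []⟩]

private theorem dot0 : ∀ (xs : List ℤ), (∀ x ∈ xs, x = 0) → ∀ ws, Sieve.dot xs ws = 0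
  | [], _, _ => by rw [Sieve.dot]; intro _ _ _ _ h; exact fun _ => nomatch h
  | _ :: _, _, [] => by rw [Sieve.dot]; intro _ _ _ _ _ h; exact nomatch h
  | x :: xs, h, w :: ws => by
    rw [Sieve.dot, h x List.mem_cons_self, dot0 xs (fun y hy => h y (List.mem_cons_of_mem _ hy)), Int.zero_mul, Int.add_zero]

private theorem quad0 (d : ℤ) : ∀ (cs : List Cf), (∀ c ∈ cs, c.g = 0 ∧ c.q = 0 ∧ c.r = 0 ∧ ∀ x ∈ c.x, x = 0) →
    ∀ ws, Sieve.quad d cs ws = 0
  | [], _, _ => by rw [Sieve.quad]; intro _ _ _ _ h; exact fun _ => nomatch h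
  | _ :: _, _, [] => by rw [Sieve.quad]; intro _ _ _ _ _ h; exact nomatch h
  | c :: cs, h, w :: ws => by
    obtain ⟨h1, h2, h3, h4⟩ := h c List.mem_cons_self
    rw [Sieve.quad, h1, h2, h3, dot0 _ h4, quad0 d cs (fun y hy => h y (List.mem_cons_of_mem _ hy))]
    simp only [Int.zero_mul, Int.mul_zero, Int.add_zero]

private theorem leaf_13 (c : List ℕ) (K : ℤ) (d : ℕ) (h : ¬ d % 13 = 0) : leaf ⟨c, 0, cs0, [0, 0, 0, K]⟩ d = true := by
  refine leaf_of (Or.inr fun ws => ?_)
  have h1 : Nat.beq (d % 13) 0 = false := by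
    cases h2 : Nat.beq (d % 13) 0 with
    | false => rfl
    | true => exact absurd (Nat.eq_of_beq_eq_true h2) h
  have h2 : Sys.exSum d (exOf Cs [0, 0, 0, K]) = 0 := by
    show (bif Nat.beq d 57477 then (0 : ℤ) else 0) + ((bif Nat.beq d 249458 then (0 : ℤ) else 0) +
      ((bif Nat.beq (d % 5) 0 then (0 : ℤ) else 0) + ((bif Nat.beq (d % 13) 0 then K else 0) + 0))) = 0
    rw [h1]
    cases Nat.beq d 57477 <;> cases Nat.beq d 249458 <;> cases Nat.beq (d % 5) 0 <;> rfl
  show (bif _ then true else decide ((0 : ℤ) ≤ 0 * (d : ℤ) * d + Sieve.quad d cs0 ws + Sys.exSum d (exOf Cs [0, 0, 0, K]))) = true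
  rw [h2, quad0 d cs0 (by decide), Int.zero_mul, Int.zero_mul]
  cases Cert.Q _ d <;> rfl

private theorem leaf_5 (c : List ℕ) (K : ℤ) (d : ℕ) (h : ¬ d % 5 = 0) : leaf ⟨c, 0, cs0, [0, 0, K, 0]⟩ d = true := by
  refine leaf_of (Or.inr fun ws => ?_)
  have h1 : Nat.beq (d % 5) 0 = false := by
    cases h2 : Nat.beq (d % 5) 0 with
    | false => rfl
    | true => exact absurd (Nat.eq_of_beq_eq_true h2) h
  have h2 : Sys.exSum d (exOf Cs [0, 0, K, 0]) = 0 := by
    show (bif Nat.beq d 57477 then (0 : ℤ) else 0) + ((bif Nat.beq d 249458 then (0 : ℤ) else 0) +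
      ((bif Nat.beq (d % 5) 0 then K else 0) + ((bif Nat.beq (d % 13) 0 then (0 : ℤ) else 0) + 0))) = 0
    rw [h1]
    cases Nat.beq d 57477 <;> cases Nat.beq d 249458 <;> cases Nat.beq (d % 13) 0 <;> rfl
  show (bif _ then true else decide ((0 : ℤ) ≤ 0 * (d : ℤ) * d + Sieve.quad d cs0 ws + Sys.exSum d (exOf Cs [0, 0, K, 0]))) = true
  rw [h2, quad0 d cs0 (by decide), Int.zero_mul, Int.zero_mul]
  cases Cert.Q _ d <;> rfl

private theorem via13 (c : List ℕ) (K : ℤ)
    (h : divP (cut ⟨c, 0, cs0, [0, 0, 0, K]⟩) (leaf ⟨c, 0, cs0, [0, 0, 0, K]⟩)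
      [(2, 21), (29, 1), (23, 1), (17, 1), (11, 1), (7, 3), (5, 2), (3, 16)] 13 = true)
    (d : ℕ) (hd : d ∣ 1255205709190661721292800) : leaf ⟨c, 0, cs0, [0, 0, 0, K]⟩ d = true :=
  if h1 : d % 13 = 0 then leaf_all _ 13 _ (by decide) (by decide +kernel) (by decide +kernel) h d hd h1 else leaf_13 c K d h1

private theorem via5 (c : List ℕ) (K : ℤ)
    (h : divP (cut ⟨c, 0, cs0, [0, 0, K, 0]⟩) (leaf ⟨c, 0, cs0, [0, 0, K, 0]⟩)
      [(23, 1), (29, 1), (13, 1), (7, 3), (3, 16), (2, 21), (17, 1), (11, 1), (5, 1)] 5 = true)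
    (d : ℕ) (hd : d ∣ 1255205709190661721292800) : leaf ⟨c, 0, cs0, [0, 0, K, 0]⟩ d = true :=
  if h1 : d % 5 = 0 then leaf_all _ 5 _ (by decide) (by decide +kernel) (by decide +kernel) h d hd h1 else leaf_5 c K d h1

private def ct1 : Cert := ⟨[6, 14, 15, 26, 87, 221, 299], 0,
    [⟨0, 0, 25104114183813234426, [4184019030635539071, 0]⟩, ⟨0, 0, 8368038061271078142, [8368038061271078142]⟩, ⟨0, 0, 0, []⟩],
    [0, 0, 0, -46024209336990929781]⟩

private theorem hC1 : divP (cut ct1) (leaf ct1)
    [(2, 21), (3, 16), (13, 1), (7, 3), (5, 2), (29, 1), (23, 1), (17, 1), (11, 1)] 1 = true := by decide +kernel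

theorem hC : allDiv 1255205709190661721292800
    (fun d => bif pre Ms d then okAll 1255205709190661721292800 (Ds.map PD.fam) Cs d Cts else true)
    [(29, 1), (23, 1), (17, 1), (13, 1), (11, 1), (7, 3), (5, 2), (3, 16), (2, 21)] 1 = true := by
  refine allDiv_conv _ _ fun d hd => ?_
  rw [Nat.one_mul]
  have hd' : d ∣ 1255205709190661721292800 := Nat.dvd_trans hd (Nat.dvd_of_mod_eq_zero (by decide +kernel))
  have h1 := leaf_all ct1 1 _ (by decide) (by decide +kernel) (by decide +kernel) hC1 d hd' (Nat.mod_one d)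
  have h2 := via13 [26, 65, 91, 221, 377] (-12552057091906617213) (by decide +kernel) d hd'
  have h3 := via5 [15, 26, 35, 115, 145] (-12552057091906617213) (by decide +kernel) d hd'
  have h4 := via5 [10, 39, 85, 115, 145] (-12552057091906617213) (by decide +kernel) d hd'
  have h5 := via13 [26, 39, 299, 377] (-12552057091906617213) (by decide +kernel) d hd'
  have h6 := via5 [10, 15, 35, 115] (-12552057091906617213) (by decide +kernel) d hd'
  rw [leaf] at h1 h2 h3 h4 h5 h6
  show (bif pre Ms d then okAll 1255205709190661721292800 (Ds.map PD.fam) Cs d Cts else true) = true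
  cases hp : pre Ms d with
  | false => rfl
  | true =>
    rw [hp, cond_true] at h1 h2 h3 h4 h5 h6
    rw [cond_true, Cts, okAll, okAll, okAll, okAll, okAll, okAll, okAll]
    exact Bool.and_eq_true_iff.2 ⟨h1, Bool.and_eq_true_iff.2 ⟨h2, Bool.and_eq_true_iff.2 ⟨h3, Bool.and_eq_true_iff.2 ⟨h4,
      Bool.and_eq_true_iff.2 ⟨h5, Bool.and_eq_true_iff.2 ⟨h6, rfl⟩⟩⟩⟩⟩⟩

theorem hChk : chkAll 1255205709190661721292800 L Ds Cs Ms Cts = true := hC

section

variable {S : Type u} [Group S] [Finite S] [Fintype (IrrCharacter S)]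

theorem ctx [IsSimpleGroup S] (hN : Nat.card S = 1255205709190661721292800) (hx : ∀ D ∈ Ds, D.Cent S) (hC : ∀ c ∈ Cs, c.Holds S) :
    Ctx S (fun g : S => orderOf g) 1255205709190661721292800 L (Ds.map PD.fam) Cs :=
  ctx_of_primes hN (by norm_num) (by decide +kernel) (by decide +kernel) (by decide +kernel) hx hC

variable {lab : S → ℕ}

theorem cl_all (C : Ctx S lab 1255205709190661721292800 L (Ds.map PD.fam) Cs) : ∀ ct ∈ Cts, Cl S ct.c :=
  cl_of_chkAll C hMs hHead hChk

/-- the clauses -/
def E : List (List ℕ) := [[57477], [249458], [5], [13]] ++ Cts.map Cert.c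

theorem cl_E (C : Ctx S lab 1255205709190661721292800 L (Ds.map PD.fam) Cs) (hE : ∀ c ∈ ([[57477], [249458], [5], [13]] : List (List ℕ)), Cl S c) : ∀ c ∈ E, Cl S c := by
  intro c hc
  rcases List.mem_append.1 hc with hc | hc
  · exact hE c hc
  · obtain ⟨ct, hct, rfl⟩ := List.mem_map.1 hc
    exact cl_all C ct hct

private def P2 : List ℕ := [7, 23, 3, 2, 29, 17, 11, 5, 13]

private def E2 : List (List ℕ) := [[249458], [377, 39, 26, 299], [10, 15, 35, 115], [85, 39, 10, 145, 115], [57477], [65, 91, 377, 221, 26], [26, 145, 115, 35, 15], [221, 15, 87, 26, 14, 6, 299]]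

private theorem subE : (E2.all fun c => E.any fun d => d.all fun m => c.any fun n => Nat.beq m n) = true := by decide +kernel

private theorem kc5 : chkLay E2 (P2.erase 5) [(5, 0)] false = true := by decide +kernel

private theorem kc13 : chkLay E2 (P2.erase 13) [(13, 0)] false = true := by decide +kernel

private theorem kc7 : ([7, 23, 3, 2, 29, 17, 11].all fun p => chkLay E2 (P2.erase p) [(p, 0)] false) = true := by
  decide +kernel

private theorem kcDist : chkDist P2 E2 = true := by
  show (([7, 23, 3, 2, 29, 17, 11] ++ [5, 13]).all fun p => chkLay E2 (P2.erase p) [(p, 0)] false) = true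
  rw [List.all_append, kc7, List.all_cons, List.all_cons, kc5, kc13]
  rfl

private theorem kcIM : chkIM P2 E2 = true := by decide +kernel

private theorem kcTri : chkTri P2 E2 = true := by decide +kernel


/-- **The facts on the degree graph.** -/
theorem dist_of (C : Ctx S lab 1255205709190661721292800 L (Ds.map PD.fam) Cs) (hE : ∀ c ∈ ([[57477], [249458], [5], [13]] : List (List ℕ)), Cl S c) :
    DistFacts S := by
  refine Graph.distFacts P2 (by decide +kernel) (by decide +kernel) (fun p hp hd => ?_) E2 (fun c hc => ?_) kcIM kcTri kcDist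
    (List.cons_ne_nil _ _)
  · rw [C.card, ← C.fac] at hd
    have h1 : ∀ q ∈ L.map Prod.fst, q ∈ P2 := by decide +kernel
    exact h1 p (mem_of_facProd C.pr hp hd)
  · obtain ⟨d, hd, h1⟩ := List.any_eq_true.1 (List.all_eq_true.1 subE c hc)
    refine (cl_E C hE d hd).mono fun m hm => ?_
    obtain ⟨n, hn, h2⟩ := List.any_eq_true.1 (List.all_eq_true.1 h1 m hm)
    exact ⟨n, hn, by rw [Nat.eq_of_beq_eq_true h2]⟩

end

end Cfsg.Agent.H653.Spor.Fi24
end

-- part: H653/Spor/Fi24
section
set_option linter.all false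
open scoped Cfsg.Agent.FastGrp

/-!
# The degree graph of `Fi₂₄'`: connected, a triangle, distances at most three (helper653)

The degrees 57477 and 249458 (helper30), Ito-Michler for 5 and 13, and the columns of the elements of order 29, 23, 17.
-/

set_option autoImplicit false

namespace Cfsg.Agent.H653.Spor.Fi24

open Cfsg Cfsg.Agent.Characters.Core Cfsg.Agent.H653.Sys Cfsg.Agent.H653.Sieve Cfsg.Agent.H653.Graph
open Subgroup Cfsg.Agent.H30.GraphFi24

universe u

theorem cent_all : ∀ D ∈ Ds, D.Cent Spor.Fi24' := by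
  intro D hD
  simp only [Ds, List.mem_cons, List.not_mem_nil, or_false] at hD
  rcases hD with rfl | rfl | rfl
  · obtain ⟨x, hx, hc⟩ := H161.Rec.FiTF.cent29
    exact ⟨x, hx, by rw [hc, mul_one]⟩
  · obtain ⟨x, hx, hc⟩ := H161.Rec.FiTF.cent23
    exact ⟨x, hx, by rw [hc, mul_one]⟩
  · obtain ⟨x, hx, hc⟩ := H161.Rec.FiTF.cent17
    exact ⟨x, hx, by rw [hc, mul_one]⟩

theorem im_F {p : ℕ} (hp : p.Prime) (hd : p ∣ 1255205709190661721292800) :
    ∃ χ : IrrCharacter Spor.Fi24', p ∣ charDegree (χ : Spor.Fi24' → ℂ) := by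
  have := Fact.mk hp
  have hfin : Finite Spor.Fi24' := finite_Fi24'
  exact H30.IMFi24.im_fi24 (S := Spor.Fi24') ⟨MulEquiv.refl _⟩ (by rw [card_F]; exact hd)

theorem facts' : DistFacts Spor.Fi24' := by
  classical
  have hfin : Finite Spor.Fi24' := finite_Fi24'
  have hsim : IsSimpleGroup Spor.Fi24' := R08.FiTwentyFour.isFi24'.1
  have := finite_irr (G := Spor.Fi24')
  let _ := Fintype.ofFinite (IrrCharacter Spor.Fi24')
  obtain ⟨e1, e2⟩ := exists_deg
  have e5 := im_F (p := 5) (by norm_num) (by norm_num)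
  have e13 := im_F (p := 13) (by norm_num) (by norm_num)
  refine dist_of (ctx card_F cent_all ?_) ?_
  · intro c hc
    simp only [Cs, List.mem_cons, List.not_mem_nil, or_false] at hc
    rcases hc with rfl | rfl | rfl | rfl
    · exact condEq_holds e1
    · exact condEq_holds e2
    · exact condDv_holds e5
    · exact condDv_holds e13
  · intro c hc
    simp only [List.mem_cons, List.not_mem_nil, or_false] at hc
    rcases hc with rfl | rfl | rfl | rfl
    · obtain ⟨χ, hχ⟩ := e1
      exact ⟨57477, by simp, χ, by rw [hχ]⟩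
    · obtain ⟨χ, hχ⟩ := e2
      exact ⟨249458, by simp, χ, by rw [hχ]⟩
    · exact ⟨5, by simp, e5⟩
    · exact ⟨13, by simp, e13⟩

/-- **The degree graph of `Fi₂₄'`.** -/
theorem facts {S : Type u} [Group S] (h : Spor.IsoFi24' S) : DistFacts S := by
  obtain ⟨e⟩ := h
  exact facts'.of_equiv e

end Cfsg.Agent.H653.Spor.Fi24

private theorem dce_3932c9234703 : _root_.True := by
  try have : _root_.True := by simp only [_root_.Cfsg.Agent.H653.Spor.Fi24.Cs.eq_1]
  try have : _root_.True := by simp only [_root_.Cfsg.Agent.H653.Spor.Fi24.Ds.eq_1]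
  exact _root_.True.intro
end

-- part: H653/Spor/LyCert
section
prune_inst 0x200500000200081c0002000040c14100019200230001414400000840816120452f010460131281c49ef03843c04000100119001000002000ba0040030020840f6ae2973cbc04150009c0e807190c00000000000000000000000000000000004010000
set_option linter.all false

/-- decoders of the packed data (elaboration time only) -/
private noncomputable def pk61d (b S i : Nat) : Nat := Nat.mod (Nat.shiftRight S (Nat.mul b i)) (Nat.shiftLeft (nat_lit 1) b)
private noncomputable def pk61c {α : Type} (t : Nat) (a : α) (f : Nat → α) : α := Nat.rec a (fun k _ => f k) t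
private noncomputable def pk61f {α : Type} (t : Nat) (f : Nat → α) : α := Nat.rec (f Nat.zero) (fun k _ => f (Nat.succ k)) t
private noncomputable def pk61l {α : Type} (f : Nat → α) (s e : Nat) (tl : List α) : List α :=
  pk61f e fun e => Nat.rec tl (fun k ih => List.cons (pk61f (Nat.sub e (Nat.succ k)) f) ih) (Nat.sub e s)
private noncomputable def pk61o {α : Type} (O : (n : Nat) → OfNat α n → α) (I : (n : Nat) → OfNat α n) (t : Nat) : α :=
  pk61c t (O (nat_lit 0) (I (nat_lit 0))) fun k => O (Nat.succ k) (I (Nat.succ k))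
private noncomputable def pk61y (O : (n : Nat) → OfNat Int n → Int) (I : (n : Nat) → OfNat Int n) (G : Int → Int) (t : Nat) : Int := pk61f t fun t =>
  pk61c (Nat.mod t (nat_lit 2)) (pk61o O I (Nat.div t (nat_lit 2))) fun _ => G (pk61o O I (Nat.succ (Nat.div t (nat_lit 2))))


/-!
# The degree graph of Ly: certificates (helper653)
-/

set_option autoImplicit false
set_option maxRecDepth 100000
set_option maxHeartbeats 4000000
set_option linter.unusedSectionVars false

namespace Cfsg.Agent.H653.Spor.Ly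

open Cfsg Cfsg.Agent.Characters.Core Cfsg.Agent.H653.Sys Cfsg.Agent.H653.Sieve Cfsg.Agent.H653.Graph

universe u

def L : List (ℕ × ℕ) := [(67, 1), (37, 1), (31, 1), (11, 1), (7, 1), (5, 6), (3, 7), (2, 8)]

def Ds : List PD := [⟨67, 1, 22, 3, [(0, 0), (1, 3), (22, -1), (45, 1), (66, -3)], 201, 3, true⟩,
  ⟨37, 1, 18, 2, [(0, 0), (1, 2), (18, -1), (19, 1), (36, -2)], 74, 2, true⟩]

def Cs : List Cond := [condEq 45694, condEq 1534500, condEq 3028266, condEq 4226695, condDv 7]

/-- the table of the degrees and column values -/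
noncomputable def B : List (List (ℕ × List ℤ)) :=
  let y0 : List (List (ℕ × List ℤ)) := (by
  refine (?fq9001 : (fun (On : (n : Nat) → OfNat Nat n → Nat) (In : (n : Nat) → OfNat Nat n) (Oz : (n : Nat) → OfNat Int n → Int) (Iz : (n : Nat) → OfNat Int n) (Gz : Int → Int) => (pk61l (fun i0 => ((fun g0 : Nat → Nat => pk61l (fun i1 => (_root_.Prod.mk (pk61o On In (pk61d (nat_lit 28) 
    (nat_lit 0x7b2019077af7ef651c3f05b0525c4416780265674022928401acf3f4107d71109618800896700038571002bb08d020aea001b53be0078ba90035428ca387e0b60a4b8882cf004cace80359e7e820fae2212c3100057611a0415d40006a850001ff23cc43680afb408099c00be506dbdc31785331c2498014cdfa008311a70620be0016a2fb00fae80009fc78002a5da00219a8001a7fc6b3cfd041f5c4440afd0030c2c1f0e5cbd50aec23408a9d50082ba8001fa92b01cfbba00d50a000800bb003fe46860c3c452733552ee7a80127803c0da72c10a3692005c02b004057cb010a4c800047f9a0db7b862f0a665e51c083849300299bf40106234e0c417c0017a43f013f8f00054bb40034ff88b72700736e1775eca7b141aab803fd510826810800e4c66008cb6f806805e201ea3b60174d180004b60d679fa0c3e6ba183eb888618583e21586081cb97aa15d84681057500102c78f03f5256039f7740365722023a77101aa1400144880000f217)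 i1)) (pk61l (fun i2 => (pk61y Oz Iz Gz (pk61d (nat_lit 3) 
    (nat_lit 0x201000018180018080000018000000000400810000000000185000050000180000080008005800000000018000600001000000000020400000005000000010000000080000200605800200) i2))) (Nat.mul (nat_lit 2) i1) (Nat.mul (nat_lit 2) (Nat.succ i1)) List.nil))) (g0 i0) (g0 (Nat.succ i0)) List.nil) fun j => (pk61d (nat_lit 7) 
    (nat_lit 0x69b135f314e70800) j))) (nat_lit 0) (nat_lit 8) List.nil : List (List (ℕ × List ℤ))))
    = ?xq9001 → (List (List (ℕ × List ℤ)))) ?hq9001; (case hq9001 => (set_option maxRecDepth 1000000 in conv => lhs; reduce)); intro _; exact ?xq9001 (@OfNat.ofNat Nat) instOfNatNat (@OfNat.ofNat Int) (@instOfNat) (@Neg.neg Int Int.instNegInt) : List (List (ℕ × List ℤ)))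
  let y1 : List (List (ℕ × List ℤ)) := (by
  refine (?fq9002 : (fun (On : (n : Nat) → OfNat Nat n → Nat) (In : (n : Nat) → OfNat Nat n) (Oz : (n : Nat) → OfNat Int n → Int) (Iz : (n : Nat) → OfNat Int n) (Gz : Int → Int) (tl : List (List (ℕ × List ℤ))) => (pk61l (fun i0 => ((fun g0 : Nat → Nat => pk61l (fun i1 => (_root_.Prod.mk (pk61o On In (pk61d (nat_lit 28) 
    (nat_lit 0x9468f9987dbf7e70dd6c4546dc8049e144e3e69ee018934f512b7e8212623a0108c9280aa610009b421801df568007f18e0064cf80009af0a4e66aa5dcf50024f00781b4e582146d240080af96021499000043c9c696de0b563dbb6730d80356d7891a98c6e16780e00f2170005f52a803b9f7003aa192023f70000743400019c35000ea80c5e14cc924845d5337e802b1637f250ff9b20c469c19fd7f01882f8014278a305efb8102f487e027f1e000a97685878b723b93a9024a4fb4083557007faa21048a08001c98cc01196df004f05c002e9a30013a10bd94f62943374083557007faa2101c98cc013d92d41196df00d00bc403d476c02e9a300063dcb00096c0bf4a3208cb6f8075a88e86805e2037680b428f58431ea3b60174d1800c1076105a4abd031ee5800d3d420099cf00003f99c30b07c3972f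5433b749d2bb08d02058f1e1266f0009303f007ea4ac05d9ee50354280028910001b9357013b08700ce61b0027060001e42e000e6500003f98985e1ef8450580669abf8544234838bd6402f7162c16575f611b87980cb5b00031400a0231f0001ce0c601b3c3000393c0a8db900a720e1ba3e6fc093c289c7cd3dc05f13d8031269ea24c474021192501ebe35c1a40b40046ecbd03bead000fe31c0078ea000135e089e0b307c1e4ac68daec0407e870104d5700e0b08c0974e6003b93a9021e480015330000835570048a080028e4c0016aeb49e00f047cfb29369cb0433465f928da4801015f2c09e4dd70659fa0042932001a36bb00185700008792d89934ec500280bf7f31891a1d607b387002ae53201a624e818271b013811a60edb19c05beb22045e7480353e500012e49000306bce61b006adaf1235318dc2cf01c00bea5500773ee00754324019886d00e86800082dc00038493001d500c98b65e6083b083b5d30a2d255e81d8d4ec1c3cef018f72c009d4862069ea100588f63021141600e2f5900c339d0032d6c0000e4fa66fd006409218562c6fe4a1ff364188d383105f00284f1460bdf70205e90fc04fe3c00152ed0002d6455c5812c4bd52f44443dc53310da0141b6f7070926005337e801882f80027f1e000da88b0f16e4a62173177275206cd583d4949f6814942a0106aae00ff54420dba10a091410003931980232dbe0218928005d346)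 i1)) (pk61l (fun i2 => (pk61y Oz Iz Gz (pk61d (nat_lit 3) 
    (nat_lit 0x8000000020000202000140000000000000000000000000200340808000000400180000000000000000000005018005000001000000020600800000000000000960000000610140000600040080405005000020001000086005020640008000010080000400000000040000018000802000006000005000200800000200008010000808000000000600000200600000000200000202020002006020000000000000000000000000005001000002000200000140) i2))) (Nat.mul (nat_lit 2) i1) (Nat.mul (nat_lit 2) (Nat.succ i1)) List.nil))) (g0 i0) (g0 (Nat.succ i0)) List.nil) fun j => (pk61d (nat_lit 8) 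
    (nat_lit 0xf0e0d8cabdb2a6988678685a4e3f3324180e00) j))) (nat_lit 0) (nat_lit 18) tl : List (List (ℕ × List ℤ))))
    = ?xq9002 → (List (List (ℕ × List ℤ)))) ?hq9002; (case hq9002 => (set_option maxRecDepth 1000000 in conv => lhs; reduce)); intro _; exact ?xq9002 (@OfNat.ofNat Nat) instOfNatNat (@OfNat.ofNat Int) (@instOfNat) (@Neg.neg Int Int.instNegInt) y0 : List (List (ℕ × List ℤ)))
  let y2 : List (List (ℕ × List ℤ)) := (by
  refine (?fq9003 : (fun (On : (n : Nat) → OfNat Nat n → Nat) (In : (n : Nat) → OfNat Nat n) (Oz : (n : Nat) → OfNat Int n → Int) (Iz : (n : Nat) → OfNat Int n) (Gz : Int → Int) (tl : List (List (ℕ × List ℤ))) => (pk61l (fun i0 => ((fun g0 : Nat → Nat => pk61l (fun i1 => (_root_.Prod.mk (pk61o On In (pk61d (nat_lit 28) 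
    (nat_lit 0xbb3dca049b9edf486a3e03726ae031a5b781d1c64819cc360059e03803c85c0017d4aa001d0d064892d33931980232dbe01a017880dda02d07a8ed805d3460057825800c7b9600ad7009e4dd7075069e422782cc1f0792b1a36bb0101fa1c0382c23025d3980087920001228200024a4d00bc406ed016851eb0863d476c02e9a3001820ec20b4957a076353b063dcb001a7a84000cb5bb4f6eaf54a61133f525602ecf7280dc9ab80c696de07c36d406730d801bd2f0016780e0111d2c00f217000eafc400074340000288cfc62a372e5ea8676e93a57611a00fd49580bb3dca06a850003726ae019cc36003c85c001cca00001d0da04869b52156604fca54a43682a02d6450011df7f80afe4b601d205e015c9c0cd357f0c779d39a8846907853390717ac80328a25f2caebec1b7bbc706f26970628014048d0eb037763e03678600157299000779a97d13c0477dfe0414ce8b2bf92d82201d002081d6a14eac40099328e074817805727000151b72000bc2ebe27b008142a7d624d3d44988e8042324a03d7c6b83c769e911cf28308dd97a077d5a0043797001fc63800f1d400026bc04cf40fa3f31a7631667c02a8e0b0098844005dcf500171a950146d24002bb51002149900070030000de0d1b5d8080fd0e032ca0a52c1ac801c1611812e9cc00772752043c9000106aae009a04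200914100013140b2bafb06deef1c64a2f0851449893de640a18a005017efe6312343ac11177530d9e1800b62e48055ca64034c49d021dfe001919b8008bce993c01e08f9f6526d3960851b4900202be5813c9bae08526400346d760176a240161520004ba730030ae00010f240001146b14fd8895cb0803afb24c2a1d20c27b7c6024472bf09c82860551c160537780036c3c00306b00013108800bb9ea00b2db800abc0cd7a64c855ca6403b8b87c34c49d0304e360270234c1db63380b7d6440a57db908bce900577260012b9610025c9200060d600009b0afe4b6082075a8594fd5045420e138dfe37264ca381d205e0162f4c00bf61ed072c61e0546dc803e69ee012623a00009afd5b5e24c0622719dfc2276a631b859e038017d4aa015c44d90ea864807de29003310da01d0d000105b8000709260003eba) i1)) (pk61l (fun i2 => (pk61y Oz Iz Gz (pk61d (nat_lit 3) 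
    (nat_lit 0x540006000000000000000000180140000000000000010000000000000000000000000010020018012012000000000000000800000000000000000000040600006000200015200000600800000006600000020000000400800000040000400580146000001000000002001000800600000080200001800000000000000750018010000006000800150000001408005018020000010018026000180000010088000000000000000000640018002) i2))) (Nat.mul (nat_lit 2) i1) (Nat.mul (nat_lit 2) (Nat.succ i1)) List.nil))) (g0 i0) (g0 (Nat.succ i0)) List.nil) fun j => (pk61d (nat_lit 8) 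
    (nat_lit 0xe8ddd3c8bdaea2998a7e706458483a2b1c0e00) j))) (nat_lit 0) (nat_lit 18) tl : List (List (ℕ × List ℤ))))
    = ?xq9003 → (List (List (ℕ × List ℤ)))) ?hq9003; (case hq9003 => (set_option maxRecDepth 1000000 in conv => lhs; reduce)); intro _; exact ?xq9003 (@OfNat.ofNat Nat) instOfNatNat (@OfNat.ofNat Int) (@instOfNat) (@Neg.neg Int Int.instNegInt) y1 : List (List (ℕ × List ℤ)))
  let y3 : List (List (ℕ × List ℤ)) := (by
  refine (?fq9004 : (fun (On : (n : Nat) → OfNat Nat n → Nat) (In : (n : Nat) → OfNat Nat n) (Oz : (n : Nat) → OfNat Int n → Int) (Iz : (n : Nat) → OfNat Int n) (Gz : Int → Int) (tl : List (List (ℕ × List ℤ))) => (pk61l (fun i0 => ((fun g0 : Nat → Nat => pk61l (fun i1 => (_root_.Prod.mk (pk61o On In (pk61d (nat_lit 28) 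
    (nat_lit 0xa63821c9e74dd07ae08c95beb22052bedc845e7480243162310ee0370b97e40095cb0807217d0027b7c60165d1900306b0000593fc10761076ba6145a4abd057c4f6b3b1a9d83879de031ee58019da21913a90c40d3d4200c17b950b11ec6064c30001c5eb201bd2800065ad80000218473ca0c41366284020b7b34a960d281c5f223765e81df568008fc1d807f18e007416f3011059e009af000025862ac58dfc9b25dd78311a70509e28c49ccd2817bee04118dcaf0bd21f809fc780052ba0503b119502a5da0026b25100751200061e36005ac8a0043d00000057f3e9a9c03d900c8328e1f82d8292e2681a30220b3c014533f40d679fa078c38704b0c40044b380010575000da9df001aa14b8b025897aa5e88887b8a6621b4057da0402836dee1cb6c4e0e124c00a66fd0038e8c003105f0004fe3c00152ed000c6bbaa382c043061e235296c8291cf0026211001773d40093c01e0695d00051b49002e015800a4e20008526400656a8c7429ec9293ed08bbb7c07a8f94720d55c01fea8841b74214072633005abac00465b7c03402f100f51db00ba68c78a49ca56244ea386eb622a36e4024f0a271f34f7011924a80aaba40095bf4109311d00846494016dd8400efab4003f8c700254310004d789373dbe6e4d5c0634b6f04ec21c033986c00d4c6370b3c0700790b8002fa95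401d50c9003a1a0cb2829484fbe2670584604ba7300438629d2c3c5b91dc9d4812527da041aab8024504000e4c66008f18400143c00010eb40009d080002b5cc9125a672633005fa5190465b7c03ad44743402f101bb405a0f51db00ba68c0018f72c01885800069ea1c4c1580c17b950334d5fc30e80502a211a41c5eb2017b8b160b2bafb068cc9d065ad8005504880344aea018a00500d9e1800440c17caa19544f05983e0f256346d760203f438070584604ba73002669e8012a1d3010f24000a9980003e99a0024504001472600049486c4c9a762801405fbf98c48d0eb015729900d3127409c08d302df591022f3a401a9f28d76f17ba3d610c7cca0b87a8ed8064c5b2f3041d841dae9851692af40ec6a760c7b96004ea431034f50800196b6ca256a0bea5500ae226c875432402e2c09625ea97a19886d003849300299bf400c417c006e69a003ed000013f8f) i1)) (pk61l (fun i2 => (pk61y Oz Iz Gz (pk61d (nat_lit 3) 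
    (nat_lit 0x2000000000400200200200000000600000000610001008010000200018000000000000008000000005000189022818000020016020008008000000010001000080000040005940000180218020400088000600140000000140000018190000080005000000180000000000000000140000000018199202000200400000000480200005000400040818000180000000000060008180420400000000000010000400000000000000002000000000000018400) i2))) (Nat.mul (nat_lit 2) i1) (Nat.mul (nat_lit 2) (Nat.succ i1)) List.nil))) (g0 i0) (g0 (Nat.succ i0)) List.nil) fun j => (pk61d (nat_lit 8) 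
    (nat_lit 0xeedfcec1afa1938679695e4e4233241a0d00) j))) (nat_lit 0) (nat_lit 17) tl : List (List (ℕ × List ℤ))))
    = ?xq9004 → (List (List (ℕ × List ℤ)))) ?hq9004; (case hq9004 => (set_option maxRecDepth 1000000 in conv => lhs; reduce)); intro _; exact ?xq9004 (@OfNat.ofNat Nat) instOfNatNat (@OfNat.ofNat Int) (@instOfNat) (@Neg.neg Int Int.instNegInt) y2 : List (List (ℕ × List ℤ)))
  let y4 : List (List (ℕ × List ℤ)) := (by
  refine (?fq9005 : (fun (On : (n : Nat) → OfNat Nat n → Nat) (In : (n : Nat) → OfNat Nat n) (Oz : (n : Nat) → OfNat Int n → Int) (Iz : (n : Nat) → OfNat Int n) (Gz : Int → Int) (tl : List (List (ℕ × List ℤ))) => (pk61l (fun i0 => ((fun g0 : Nat → Nat => pk61l (fun i1 => (_root_.Prod.mk (pk61o On In (pk61d (nat_lit 28) 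
    (nat_lit 0xa94c2267ea4ac06ed1e755d9ee501b9357018d2dbc0f86da80ce61b0044988c02cf01c01e42e000bea55000e8688872dac80af9604f26eb83a834f22149900113c1660d1b5d8080fd0e012e9cc0043c900009141000050fcedd274aec23401fa92b01e2ea401767b9406e4d5c0634b6f033986c00de97800b3c070088e9600790b80003a1ab738e849ac9440290ab3027e52a521b415016b228008efbfc057f25b012c7b000e902f00ae4e0a42acc09f94a9486d054023beff01de397d15fc96c158ff001100e801040eb50a7562004c994703a40bc0379e4802b938000a8db9002aae99edf180911cafc635f100267a07d1f98d3b15470580bfb04404c422002ee7a800bdb2800a3692004dbb084b512b595d7d836f778e32517841ef32050c50028091a1d606eec7c06cf0c002ae53200c8cdc0008214b21791e98d50fa87701b858a7ec44ae58401d7d92613dbe300633c4204e414302a8e0b01835800098844005dcf5001a5740002aeda1ba1308efbfc08299d1657f25b04103ad42103036132651c0e902f0031015002a36e401f34f7009311dd3127409c08d30531c10e2df5910295f6e422f3a4004ae584013dbe30018358c49a7a89311d00846494078ed3d2239e50611bb2f40efab40086f2e0047e0ec03f8c7000882cf004d7800012c31896aae37416f301f4d4e01ec806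419470fc16c14971340d1811059e006b3cfd02586200082ba8000d50a00048d8c0ed09c99e81f47e634ec71c66f3551c16021830f113a65d713108800bb9ea0049e00f02e352a028da48005271000429320039d000032b54cccb94f99328e080188aa748178048df5003c524e51c375b1151b7200f9a7b808c925404988e8042324a01f7cf00077d5a00026bc659414a427df133931eff382c23025d3980118b1c20ee4ea409293ed0250cdd020d55c0122820007263300478c2ced10c8ba2d7029d486207cc0c8077cc34069ea10060bdca819a6afe15108d20e2f5900733db8032d6c002a824401a2575006cf0c00004a0a2893123dbc7e031400a02fdfcc624687581b3c30016c5c900ab94c8069893a01179d2a78f4b55f52a8057113643aa19201dc5470171604b12f54bd0cc436803083dc01c2498014cdfa00620be003734d000c5dc00079b3) i1)) (pk61l (fun i2 => (pk61y Oz Iz Gz (pk61d (nat_lit 3) 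
    (nat_lit 0x800180000001000000000000000040000140000010008000000000000000080000000020002200400015000040018000020000180600000408000600010180040000000190000000046400000006000040000000000000000000000000000808000000000200000400000000042000000005000020008001400018010000000200018000000800005000080000200000098000000005010200080180000018000000000002000005000008620) i2))) (Nat.mul (nat_lit 2) i1) (Nat.mul (nat_lit 2) (Nat.succ i1)) List.nil))) (g0 i0) (g0 (Nat.succ i0)) List.nil) fun j => (pk61d (nat_lit 8) 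
    (nat_lit 0xecdfd3c6bbab9f9384786f6255453629190f00) j))) (nat_lit 0) (nat_lit 18) tl : List (List (ℕ × List ℤ))))
    = ?xq9005 → (List (List (ℕ × List ℤ)))) ?hq9005; (case hq9005 => (set_option maxRecDepth 1000000 in conv => lhs; reduce)); intro _; exact ?xq9005 (@OfNat.ofNat Nat) instOfNatNat (@OfNat.ofNat Int) (@instOfNat) (@Neg.neg Int Int.instNegInt) y3 : List (List (ℕ × List ℤ)))
  (by
  refine (?fq9006 : (fun (On : (n : Nat) → OfNat Nat n → Nat) (In : (n : Nat) → OfNat Nat n) (Oz : (n : Nat) → OfNat Int n → Int) (Iz : (n : Nat) → OfNat Int n) (Gz : Int → Int) (tl : List (List (ℕ × List ℤ))) => (pk61l (fun i0 => ((fun g0 : Nat → Nat => pk61l (fun i1 => (_root_.Prod.mk (pk61o On In (pk61d (nat_lit 28) 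
    (nat_lit 0x4057cb0279375c1d41a7910a4c80089e0b3068daec0407e8702c2a4000974e60021e48000228ca5740a094f12685b9c7424d64a2046d91c02b93c30148559810da0a80b591400477dfe0057270000178e75f649857568d14f6f8c0488e57e31af8800aa382c06d878005fd822026211001e3e4001773d401578180051b4900314900026dd80000070cf060c090c588c590bc8f43b80dc2c53f622572c2016820df0ebec9309edf1800c1ac000a1f04004c422ab94c808d14c7569893a04e04698298e08716fac8814afb721179d200aee4c002572c201515f30014dde000c1ac6fb4dce3f8c7003a0b7980f640320ca387e0882cf0040c680012c31000415d40006a85c6140208a841c271bfc6e51382ce4c99470400c4553a40bc02c5e9800e58c3c0a8db900a0f8c008d30ab07cd3dc024c474021192500fbe78003bead000135e707510067688645d16b814ea43103be61a034f5080305ee540cd357f0a884690717ac80196b60003f3b80036786d4c6370b706330b3c07002fa95402b889b21d50c900b0101206621b400e124c00a66fd003105f00062eebd21f8052ba0504a789342dce3a126b2510236c8e015c9e180a42acc086d05405ac8a004e1720023beff00ff6ea002b9380000bc7b7d6440a57db908bce90067830604862c4621dc06e172fc801629fb112b96100e42fa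005d909604f6f8c02cba320060d600050f820026211000b27ed2a58348dd97a037da6e71fc63801d05bcc11e414007b20190651c3f044167802063400102bf400961880020aeab4957a0af89ed676353b063dcb0062d6e31383a88033b443227521881a7a840182f72a06ca7e8038bd6400cb5b0001b3c30000f2d0000430bdf70209ed6c068c6e5785e90fc0295d028253c49a152ed0013592880521566043682a02d64500270b900070ea40015c9c8e79418826cc5080416f66952c1a5b761005038be446ecbd03bead000fe31c00e82de608f20a00220b3c0066057004b0c400105755efb81046372bc2f487e014ae814129e24d0a9768009ac9440290ab3021b415016b228000ae4ea13c5189399a502f7dc08231b95e1e7cb0017a43f013f8f000a5740a054bb4004d64a2031aec000b59140005727) i1)) (pk61l (fun i2 => (pk61y Oz Iz Gz (pk61d (nat_lit 3) 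
    (nat_lit 0x800020000000818000000018020000200810001020006222800000000040000800000000000000800602000000000018000010000080200818001800000200020000008000000000080008000000080000008000000010200000600880200000400020000601018010018000000020000008040000000018400000002000005600200000000000000205000800005600000010020000000000000000000000600001000000006000) i2))) (Nat.mul (nat_lit 2) i1) (Nat.mul (nat_lit 2) (Nat.succ i1)) List.nil))) (g0 i0) (g0 (Nat.succ i0)) List.nil) fun j => (pk61d (nat_lit 8) 
    (nat_lit 0xe7dcd0c0b4a79d8b7e726352453527180d0000) j))) (nat_lit 0) (nat_lit 18) tl : List (List (ℕ × List ℤ))))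
    = ?xq9006 → (List (List (ℕ × List ℤ)))) ?hq9006; (case hq9006 => (set_option maxRecDepth 1000000 in conv => lhs; reduce)); intro _; exact ?xq9006 (@OfNat.ofNat Nat) instOfNatNat (@OfNat.ofNat Int) (@instOfNat) (@Neg.neg Int Int.instNegInt) y4 : List (List (ℕ × List ℤ)))

def RS : List (ℕ × List ℕ) := [(67, [0, 1, 22, 45, 66]), (37, [0, 1, 18, 19, 36])]

theorem hB : allDiv 51765179004000000 (tabD 51765179004000000 RS (Ds.map PD.fam) 97 B) L 1 = true :=
  Cfsg.Agent.H653.Sys.Qk.tab 227519623 (by decide +kernel)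

section

variable {S : Type u} [Group S] [Finite S] [Fintype (IrrCharacter S)]

theorem tab [IsSimpleGroup S] (hN : Nat.card S = 51765179004000000) (hx : ∀ D ∈ Ds, D.Cent S) (hC : ∀ c ∈ Cs, c.Holds S) :
    Tab S (fun g : S => orderOf g) 51765179004000000 L (Ds.map PD.fam) Cs B.flatten :=
  Tab.of_primes hN (by norm_num) (by decide +kernel) (by decide +kernel) rfl (by decide +kernel) hx hB hC

variable {lab : S → ℕ}

theorem cl_1 (C : Tab S lab 51765179004000000 L (Ds.map PD.fam) Cs B.flatten) : Cl S [14] :=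
  Cfsg.Agent.H653.Sys.Qk.cl C _ 0
    [⟨0, 0, 0, [86275298340]⟩, ⟨0, 0, 258825895020, []⟩]
    [0, -517651790040, 0, 0, 0] (by decide +kernel)

theorem cl_2 (C : Tab S lab 51765179004000000 L (Ds.map PD.fam) Cs B.flatten) : Cl S [21] :=
  Cfsg.Agent.H653.Sys.Qk.cl C _ 0
    [⟨0, 0, 0, [86275298340]⟩, ⟨0, 0, 258825895020, []⟩]
    [0, -517651790040, 0, 0, 0] (by decide +kernel)

end

end Cfsg.Agent.H653.Spor.Ly
end

-- part: H843/IMC/RowsC_mg
section
prune_inst 0x200500000200081c0002000040c14100019200630001414400000800816120042f000460131081449af03043c04000100119001800002000ba0040030020840b62c2933cac04150009c0e807190c00000000000000000000000000000000004010000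
set_option linter.all false
open scoped Cfsg.Agent.FastGrp

-- part: H714/DG/CoTwoF
section
/-!
# The degree graph of `Co2`, modulo a character of degree divisible by `6` (helper714)
-/

set_option autoImplicit false

namespace Cfsg.Agent.H714.DG.CoTwoF

open Cfsg Cfsg.Agent.H678.DG

universe u

theorem im_44275 : H671.H5.IM 44275 Spor.Co2 := by
  obtain ⟨χ, h⟩ := CoTwoX.exists_44275
  exact ⟨χ, by rw [h]⟩

/-- The degree graph of `Co2`. -/
theorem facts_co2_of {S : Type u} [Group S] (h : Spor.IsoCo2 S) (h6 : H671.H5.IM 6 Spor.Co2) : Facts S := by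
  obtain ⟨e⟩ := h
  refine Facts.of_equiv e ?_
  have : Finite Spor.Co2 := Cfsg.Agent.Co2Type.CardCo2.finite_co2
  refine Facts.of_list (P := [2, 3, 11, 23, 5, 7]) (D := [6, 2024, 2277, 44275]) ?_ (by decide)
    (mem_of_card (f := fun _ => 18) ?_ ?_) ?_ (by decide +kernel)
  · intro p hp; fin_cases hp <;> norm_num
  · rw [Cfsg.Agent.Co2Type.CardCo2.card_co2]; decide +kernel
  · intro p hp; fin_cases hp <;> norm_num
  · intro m hm
    simp only [List.mem_cons, List.not_mem_nil, or_false] at hm
    rcases hm with rfl | rfl | rfl | rfl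
    · exact h6
    · exact Rows.im_of_hasDeg Cfsg.Agent.H843.IMC.Co2A.hasDeg_2024_275.1
    · exact Rows.im_of_hasDeg Cfsg.Agent.H843.IMC.Co2B.hasDeg_2277
    · exact im_44275

end Cfsg.Agent.H714.DG.CoTwoF
end

-- part: H843/IMC/RowsC
section
/-!
# The degree graph of `Co2` (helper843)
-/

set_option autoImplicit false

namespace Cfsg.Agent.H843.IMC.Rows

open Cfsg Cfsg.Agent.H678.DG

universe u

/-- **The degree graph of `Co2`.** -/
theorem facts_co2 {S : Type u} [Group S] (h : Spor.IsoCo2 S) : Facts S :=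
  Cfsg.Agent.H714.DG.CoTwoF.facts_co2_of h Co2C.hasDvd_six

end Cfsg.Agent.H843.IMC.Rows
end

-- part: H653/Spor/Ly
section
/-!
# The degree graph of `Ly` (helper653)

The degrees 45694, 1534500, 3028266, 4226695 (helper314), Ito-Michler for 7, and the columns of the elements of order 67
and 37 (centralizers: helper655, from the classification).
-/

set_option autoImplicit false

namespace Cfsg.Agent.H653.Spor.Ly

open Cfsg Cfsg.Agent.Characters.Core Cfsg.Agent.H653.Sys Cfsg.Agent.H653.Sieve Cfsg.Agent.H653.Graph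
open Subgroup

universe u

theorem cent_all (hK : H995.CopEngine.AllKnown.{0}) : ∀ D ∈ Ds, D.Cent Spor.Ly := by
  have hI : Spor.IsoLy Spor.Ly := ⟨MulEquiv.refl _⟩
  have hfin : Finite Spor.Ly := Cfsg.Agent.Ly.Setup.finite_ly
  have ex : ∀ p : ℕ, p.Prime → p ∣ 51765179004000000 → ∃ x : Spor.Ly, orderOf x = p := by
    intro p hp hd
    have := Fact.mk hp
    exact exists_prime_orderOf_dvd_card' (G := Spor.Ly) p (by rw [Cfsg.Agent.Ly.Setup.card_ly]; exact hd)
  intro D hD
  simp only [Ds, List.mem_cons, List.not_mem_nil, or_false] at hD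
  rcases hD with rfl | rfl
  · obtain ⟨x, hx⟩ := ex 67 (by norm_num) (by norm_num)
    exact ⟨x, hx, by rw [H655.LySixtySeven.card_centralizer hK hI hx, mul_one]⟩
  · obtain ⟨x, hx⟩ := ex 37 (by norm_num) (by norm_num)
    exact ⟨x, hx, by rw [H655.LyThirtySeven.card_centralizer37 hK hI hx, mul_one]⟩

theorem facts_ly' (hK : H995.CopEngine.AllKnown.{0}) : H678.DG.Facts Spor.Ly := by
  classical
  have hfin : Finite Spor.Ly := Cfsg.Agent.Ly.Setup.finite_ly
  have hsim : IsSimpleGroup Spor.Ly := Cfsg.Agent.Ly.Setup.isSimple_ly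
  have := finite_irr (G := Spor.Ly)
  let _ := Fintype.ofFinite (IrrCharacter Spor.Ly)
  obtain ⟨χ, -, hχ⟩ := H314.LyOrb.exists_deg_ly
  have e1 : ∃ χ : IrrCharacter Spor.Ly, charDegree (χ : Spor.Ly → ℂ) = 45694 := ⟨χ 1, hχ 1⟩
  have e2 : ∃ χ : IrrCharacter Spor.Ly, charDegree (χ : Spor.Ly → ℂ) = 1534500 := ⟨χ 2, hχ 2⟩
  have e3 : ∃ χ : IrrCharacter Spor.Ly, charDegree (χ : Spor.Ly → ℂ) = 3028266 := ⟨χ 3, hχ 3⟩
  have e4 : ∃ χ : IrrCharacter Spor.Ly, charDegree (χ : Spor.Ly → ℂ) = 4226695 := ⟨χ 4, hχ 4⟩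
  have e7 : ∃ χ : IrrCharacter Spor.Ly, 7 ∣ charDegree (χ : Spor.Ly → ℂ) :=
    H314.IMLy.im_ly' (by norm_num) (by rw [Cfsg.Agent.Ly.Setup.card_ly]; norm_num)
  have T := tab Cfsg.Agent.Ly.Setup.card_ly (cent_all hK) (by
    intro c hc
    simp only [Cs, List.mem_cons, List.not_mem_nil, or_false] at hc
    rcases hc with rfl | rfl | rfl | rfl | rfl
    · exact condEq_holds e1
    · exact condEq_holds e2
    · exact condEq_holds e3
    · exact condEq_holds e4
    · exact condDv_holds e7)
  have im_of : ∀ n : ℕ, Cl Spor.Ly [n] → H33.IM n Spor.Ly := by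
    rintro n ⟨k, hk, χ, hχ⟩
    rw [List.mem_singleton] at hk
    subst hk
    exact ⟨χ, hχ⟩
  have hpr : ∀ p ∈ [7, 37, 5, 3, 2, 11, 31, 67], p.Prime := by
    intro p hp
    simp only [List.mem_cons, List.not_mem_nil, or_false] at hp
    rcases hp with rfl | rfl | rfl | rfl | rfl | rfl | rfl | rfl <;> norm_num
  refine H678.DG.Facts.of_list (P := [7, 37, 5, 3, 2, 11, 31, 67]) (D := [45694, 1534500, 3028266, 4226695, 14, 21])
    hpr (by decide) (H678.DG.mem_of_card (f := fun p => if p = 2 then 8 else if p = 3 then 7 else if p = 5 then 6 else 1)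
      (by rw [Cfsg.Agent.Ly.Setup.card_ly]; norm_num) hpr) ?_ (by decide +kernel)
  intro d hd
  simp only [List.mem_cons, List.not_mem_nil, or_false] at hd
  rcases hd with rfl | rfl | rfl | rfl | rfl | rfl
  · obtain ⟨χ, hχ⟩ := e1
    exact ⟨χ, by rw [hχ]⟩
  · obtain ⟨χ, hχ⟩ := e2
    exact ⟨χ, by rw [hχ]⟩
  · obtain ⟨χ, hχ⟩ := e3
    exact ⟨χ, by rw [hχ]⟩
  · obtain ⟨χ, hχ⟩ := e4
    exact ⟨χ, by rw [hχ]⟩
  · exact im_of 14 (cl_1 T)
  · exact im_of 21 (cl_2 T)

/-- **The degree graph of `Ly`.** -/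
theorem facts_ly (hK : H995.CopEngine.AllKnown.{0}) {S : Type u} [Group S] (h : Spor.IsoLy S) : H678.DG.Facts S := by
  obtain ⟨e⟩ := h
  exact H678.DG.Facts.of_equiv e (facts_ly' hK)

end Cfsg.Agent.H653.Spor.Ly
end

private theorem dce_bbd4b182c280 : _root_.True := by
  try have : _root_.True := by simp only [_root_.Cfsg.Agent.H653.Spor.Ly.Ds.eq_1]
  try have : _root_.True := by simp only [_root_.Cfsg.Agent.H653.Spor.Ly.Cs.eq_1]
  exact _root_.True.intro
end

-- part: H671/Spor/MTwentyTwo
section
prune_inst 0x80000000000000001000000000000000000000000000000000000000000000000000000000000000000000000000000000000000000000000000000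
set_option linter.all false
open scoped Cfsg.Agent.FastGrp

-- part: H671/Spor/Wedge
section
/-!
# The exterior square of the deleted permutation module (helper671)

`exists_wedge` : `G` is transitive on the ordered pairs of distinct points of `Ω`, `n = |Ω| ≥ 4`, the stabiliser of
`a` and `b` is transitive on the other points and swaps any two of them: then `G` has an irreducible character of
degree `(n - 1) (n - 2) / 2`.
-/

set_option autoImplicit false
set_option linter.unusedSectionVars false
set_option linter.unusedVariables false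

namespace Cfsg.Agent.H671.Wedge

open Cfsg Cfsg.Agent.H678.DG.Sph
open scoped ComplexConjugate

universe u v

variable {G : Type u} [Group G] {Ω : Type v} [Fintype Ω] [DecidableEq Ω] [MulAction G Ω]

/-- the ordered pairs of distinct points -/
abbrev OP (Ω : Type v) := {p : Ω × Ω // p.1 ≠ p.2}

instance instMulActionOP : MulAction G (OP Ω) where
  smul g x := ⟨(g • x.1.1, g • x.1.2), fun h => x.2 (MulAction.injective g h)⟩
  one_smul x := Subtype.ext (Prod.ext (one_smul G _) (one_smul G _))
  mul_smul g h x := Subtype.ext (Prod.ext (mul_smul g h _) (mul_smul g h _))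

end Cfsg.Agent.H671.Wedge
end

-- part: H671/Spor/MTwentyTwo
section
/-!
# The degree graphs of `M22` and `M23` (helper671)

* `facts_m22` : degrees 210, 55;
* `facts_m23` : degrees 22, 230, 231.
-/

set_option autoImplicit false
open scoped Pointwise

namespace Cfsg.Agent.H671.MFacts

open Cfsg Cfsg.Agent.GolayOrbit.Basic Cfsg.Agent.GolayOrbit.Code Cfsg.Agent.GolayOrbit.Walk
  Cfsg.Agent.GolayOrbit.Cover
open Cfsg.Agent.H852.IMMathieu Cfsg.Agent.H852.IMPerm Cfsg.Agent.H852.IMRankThree
open Cfsg.Agent.H690.Spor.RankThree Cfsg.Agent.H678.DG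

universe u


/-! ### exact degrees from rank 3 -/

/-- Every solution of Frame's equations has `f = f0` (`f ≤ g`). -/
def chkf (k l f0 : ℕ) : Bool := (List.range ((k + l) / 2 + 1)).all fun f =>
  (f == 0) || !(((1 + k + l) * k * l) % (f * (k + l - f)) == 0) ||
    (let D := ((1 + k + l) * k * l) / (f * (k + l - f)); !(Nat.sqrt D * Nat.sqrt D == D)) || f == f0

theorem chkf_spec {k l f0 : ℕ} (h : chkf k l f0 = true) {f g D : ℕ} (hfg : f + g = k + l) (hle : f ≤ g)
    (hf : f ≠ 0) (hprod : f * g * D = (1 + k + l) * k * l) (hD : IsSquare D) : f = f0 := by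
  unfold chkf at h
  rw [List.all_eq_true] at h
  have h1 := h f (List.mem_range.2 (by omega))
  have hg : k + l - f = g := by omega
  have hpos : 0 < f * g := Nat.mul_pos (by omega) (by omega)
  have h2 : (1 + k + l) * k * l % (f * g) = 0 := by
    rw [← hprod]
    exact Nat.mul_mod_right _ _
  have h3 : (1 + k + l) * k * l / (f * g) = D := by
    rw [← hprod]
    exact Nat.mul_div_cancel_left _ hpos
  obtain ⟨m, hm⟩ := hD
  have h4 : Nat.sqrt D * Nat.sqrt D = D := by
    rw [hm, Nat.sqrt_eq]
  simp only [hg, h2, h3, h4] at h1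
  simpa [hf] using h1

theorem im_of_chkf {G X : Type*} [Group G] [MulAction G X] [Finite G] {R : X → X → Prop} {k l : ℕ}
    (h : R3 G X R k l) (hodd : Odd (k + l) ∨ ¬ (k + l) / 2 ∣ Nat.card G) {f0 g0 : ℕ} (hg0 : f0 + g0 = k + l)
    (hc : chkf k l f0 = true) : H671.H5.IM f0 G ∧ H671.H5.IM g0 G := by
  classical
  have hn := h.cardn
  have hfin : Finite X := by
    by_contra hcon
    rw [not_finite_iff_infinite] at hcon
    rw [Nat.card_eq_zero_of_infinite] at hn
    omega
  have := Fintype.ofFinite X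
  obtain ⟨χ₁, χ₂, f, g, D, hf, hg, -, hfg, hprod, hsq⟩ := h.frame
  have hprod0 : (1 + k + l) * k * l ≠ 0 := by
    have := h.k0
    have := h.l0
    positivity
  have e1 : charDegree (χ₁ : G → ℂ) = f := Cfsg.Agent.Blocks.Basic.charDegree_of_eq hf
  have e2 : charDegree (χ₂ : G → ℂ) = g := Cfsg.Agent.Blocks.Basic.charDegree_of_eq hg
  have hne : f ≠ g := by
    rintro rfl
    rcases hodd with h1 | h1
    · rw [← hfg] at h1
      exact (Nat.not_odd_iff_even.2 ⟨f, rfl⟩) h1
    · apply h1
      have h2 : (k + l) / 2 = f := by omega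
      rw [h2, ← e1]
      exact Cfsg.Agent.Blocks.Knorr.charDegree_dvd χ₁.2
  have hf0 : f ≠ 0 := by
    rintro rfl
    rw [zero_mul, zero_mul] at hprod
    exact hprod0 hprod.symm
  have hg0' : g ≠ 0 := by
    rintro rfl
    rw [mul_zero, zero_mul] at hprod
    exact hprod0 hprod.symm
  rcases le_total f g with hle | hle
  · have h5 := chkf_spec hc hfg hle hf0 hprod (hsq hne)
    exact ⟨⟨χ₁, by rw [e1, h5]⟩, ⟨χ₂, by rw [e2]; exact ⟨1, by omega⟩⟩⟩
  · have h5 := chkf_spec hc (by omega) hle hg0' (by rw [mul_comm g f]; exact hprod) (hsq hne)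
    exact ⟨⟨χ₂, by rw [e2, h5]⟩, ⟨χ₁, by rw [e1]; exact ⟨1, by omega⟩⟩⟩

end Cfsg.Agent.H671.MFacts
end
end

-- part: H653/Spor/RuCert
section
prune_inst 0x4010000
set_option linter.all false

/-!
# The degree graph of Ru: certificates (helper653)
-/

set_option autoImplicit false
set_option maxRecDepth 100000
set_option linter.unusedSectionVars false

namespace Cfsg.Agent.H653.Spor.Ru

open Cfsg Cfsg.Agent.Characters.Core Cfsg.Agent.H653.Sys Cfsg.Agent.H653.Sieve Cfsg.Agent.H653.Graph

universe u

def L : List (ℕ × ℕ) := [(29, 1), (13, 1), (7, 1), (5, 3), (3, 3), (2, 14)]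

def Ds : List PD := [⟨29, 1, 14, 2, [(0, 0), (1, 2), (14, -1), (15, 1), (28, -2)], 58, 2, true⟩]

def Cs : List Cond := [condDv 783, condDv 3276, condDv 5]

/-- the table of the degrees and column values -/
def B : List (List (ℕ × List ℤ)) := [[],
  [(160, [1]), (1856, [0]), (3393, [0]), (20300, [0]), (63336, [0]), (100224, [0]), (174000, [0]), (296960, [0])],
  [(320, [2]), (2016, [1]), (2175, [0]), (3712, [0]), (6786, [0]), (40600, [0]), (51200, [1]), (126672, [0]), (200448, [0]), (348000, [0])],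
  [(5250, [2]), (5568, [0]), (8960, [-2]), (10179, [0]), (30160, [0]), (60900, [0]), (103936, [0]), (190008, [0]), (329875, [0])],
  [(4032, [2]), (4350, [0]), (7424, [0]), (13572, [0]), (27405, [0]), (81200, [0]), (102400, [2]), (253344, [0]), (378000, [-1])],
  [(58, [0]), (3132, [0]), (9280, [0]), (16965, [0]), (58464, [0]), (101500, [0]), (234000, [-2]), (316680, [0])],
  [(377, [0]), (1755, [1]), (6525, [0]), (11136, [0]), (20358, [0]), (60320, [0]), (121800, [0]), (207872, [0]), (380016, [0])],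
  [(378, [2]), (696, [0]), (3770, [0]), (9600, [2]), (12992, [0]), (16384, [-2]), (23751, [0]), (60480, [1]), (65250, [0]), (111360, [0]), (203580, [0])],
  [(1015, [0]), (8700, [0]), (14848, [0]), (27144, [0]), (47125, [0]), (54810, [0]), (162400, [0])],
  [(7800, [-2]), (10556, [0]), (13312, [2]), (16704, [0]), (29000, [0]), (49140, [-1]), (90480, [0]), (182700, [0]), (311808, [0])],
  [(116, [0]), (6264, [0]), (10875, [0]), (18560, [0]), (33930, [0]), (116928, [0]), (203000, [0])],
  [(117, [2]), (435, [0]), (8120, [0]), (18720, [1]), (69600, [0]), (118784, [0]), (217152, [0]), (377000, [0])],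
  [(754, [0]), (3510, [2]), (13050, [0]), (22272, [0]), (40716, [0]), (120640, [0]), (243600, [0])],
  [(2610, [0]), (22750, [-1]), (24128, [0]), (48720, [0]), (263900, [0])],
  [(14, [-1]), (1392, [0]), (7540, [0]), (15225, [0]), (25984, [0]), (47502, [0]), (120960, [2]), (130500, [0]), (222720, [0])],
  [(15, [1]), (174, [0]), (3248, [0]), (27840, [0]), (50895, [0]), (150800, [0]), (175392, [0]), (221184, [2]), (304500, [0])],
  [(175, [2]), (2030, [0]), (17400, [0]), (28000, [1]), (29696, [0]), (54288, [0]), (94250, [0]), (109620, [0]), (324800, [0])],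
  [(812, [0]), (6960, [0]), (20475, [2]), (34944, [-2]), (37700, [0]), (43848, [0]), (76125, [0]), (129920, [0]), (237510, [0])],
  [(1131, [0]), (19575, [0]), (21112, [0]), (33408, [0]), (58000, [0]), (98280, [-2]), (180960, [0]), (365400, [0])],
  [(72, [-1]), (1450, [0]), (4524, [0]), (7280, [2]), (9135, [0]), (78300, [0]), (84448, [0]), (133632, [0]), (232000, [0])],
  [(232, [0]), (7917, [0]), (12528, [0]), (21750, [0]), (37120, [0]), (67860, [0]), (109200, [1]), (137025, [0]), (186368, [-1]), (233856, [0])],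
  [(2088, [0]), (3625, [0]), (11310, [0]), (38976, [0]), (71253, [0]), (89856, [-1]), (195750, [0]), (211120, [0]), (334080, [0])],
  [(870, [0]), (5481, [0]), (16240, [0]), (37440, [2]), (139200, [0]), (237568, [0]), (254475, [0])],
  [(5800, [0]), (18096, [0]), (27000, [2]), (36540, [0]), (46080, [-2]), (197925, [0]), (313200, [0]), (337792, [0])],
  [(130, [-1]), (1508, [0]), (3045, [0]), (26100, [0]), (44544, [0]), (81432, [0]), (141375, [0]), (241280, [0])],
  [(290, [0]), (1827, [0]), (15660, [0]), (25200, [-2]), (43008, [2]), (46400, [0]), (84825, [0]), (144768, [0]), (292320, [0])],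
  [(450, [1]), (609, [0]), (768, [-1]), (5220, [0]), (28275, [0]), (45500, [-2]), (48256, [0]), (97440, [0])],
  [(928, [0]), (4320, [-2]), (10150, [0]), (31668, [0]), (50112, [0]), (87000, [0]), (148480, [0]), (271440, [0])],
  [(28, [-2]), (2625, [1]), (2784, [0]), (4480, [-1]), (15080, [0]), (30450, [0]), (51968, [0]), (95004, [0]), (261000, [0])],
  [(29, [0]), (1248, [2]), (1566, [0]), (4640, [0]), (29232, [0]), (50750, [0]), (117000, [-1]), (158340, [0]), (199680, [1]), (250560, [0])],
  [(30, [2]), (189, [1]), (348, [0]), (1885, [0]), (4800, [1]), (6496, [0]), (8192, [-1]), (32625, [0]), (55680, [0]), (101790, [0]), (301600, [0]), (350784, [0])],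
  [(3900, [-1]), (5278, [0]), (6656, [1]), (8352, [0]), (14500, [0]), (45240, [0]), (91350, [0]), (155904, [0]), (285012, [0])],
  [(4060, [0]), (34800, [0]), (56000, [2]), (59392, [0]), (108576, [0]), (188500, [0]), (219240, [0])],
  [(1305, [0]), (12064, [0]), (24360, [0]), (131950, [0]), (208800, [0]), (356352, [0])],
  [(87, [0]), (1624, [0]), (13920, [0]), (75400, [0]), (87696, [0]), (110592, [1]), (152250, [0]), (259840, [0])],
  [(406, [0]), (1625, [2]), (3480, [0]), (17472, [-1]), (18850, [0]), (21924, [0]), (64960, [0]), (118755, [0])],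
  [(725, [0]), (2262, [0]), (3640, [1]), (39150, [0]), (42224, [0]), (66816, [0]), (116000, [0]), (361920, [0])],
  [(1044, [0]), (5655, [0]), (19488, [0]), (97875, [0]), (105560, [0]), (167040, [0]), (268800, [-2])],
  [(144, [-2]), (2900, [0]), (9048, [0]), (13500, [1]), (18270, [0]), (23040, [-1]), (156600, [0]), (168896, [0]), (267264, [0])],
  [(145, [0]), (2000, [-2]), (7830, [0]), (12600, [-1]), (21504, [1]), (23200, [0]), (72384, [0]), (146160, [0])],
  [(464, [0]), (2160, [-1]), (5075, [0]), (15834, [0]), (25056, [0]), (43500, [0]), (74240, [0]), (135720, [0]), (218400, [2]), (274050, [0]), (372736, [-2])],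
  [(624, [1]), (783, [0]), (2320, [0]), (14616, [0]), (25375, [0]), (79170, [0]), (125280, [0]), (371200, [0])],
  [(2639, [0]), (4176, [0]), (7250, [0]), (22620, [0]), (45675, [0]), (77952, [0]), (142506, [0]), (179712, [-2])],
  [(3276, [-2]), (6032, [0]), (12180, [0]), (65975, [0]), (83200, [-2]), (104400, [0]), (178176, [0]), (307125, [1]), (325728, [0])],
  [(203, [0]), (1740, [0]), (9425, [0]), (10962, [0]), (32480, [0]), (278400, [0])],
  [(522, [0]), (840, [-2]), (9744, [0]), (52780, [0]), (83520, [0]), (134400, [-1])],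
  [(1000, [-1]), (3915, [0]), (11600, [0]), (36192, [0]), (73080, [0])],
  [(1160, [0]), (7308, [0]), (39585, [0]), (62640, [0]), (185600, [0]), (339300, [0])],
  [(260, [-2]), (1638, [-1]), (3016, [0]), (6090, [0]), (41600, [-1]), (52200, [0]), (89088, [0]), (162864, [0]), (282750, [0])],
  [(261, [0]), (420, [-1]), (4872, [0]), (26390, [0]), (41760, [0]), (226200, [0])],
  [(580, [0]), (3654, [0]), (31320, [0]), (92800, [0]), (169650, [0]), (289536, [0])],
  [(2436, [0]), (13195, [0]), (20880, [0]), (113100, [0]), (193024, [0]), (228375, [0]), (288000, [2])],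
  [(900, [2]), (1218, [0]), (1536, [-2]), (10440, [0]), (56550, [0]), (96512, [0]), (144000, [1]), (194880, [0]), (245760, [-1]), (356265, [0])]]

def RS : List (ℕ × List ℕ) := [(29, [0, 1, 14, 15, 28])]

theorem hB : allDiv 145926144000 (tabD 145926144000 RS (Ds.map PD.fam) 53 B) L 1 = true :=
  Cfsg.Agent.H653.Sys.Qk.tab 382002 (by decide +kernel)

section

variable {S : Type u} [Group S] [Finite S] [Fintype (IrrCharacter S)]

theorem tab [IsSimpleGroup S] (hN : Nat.card S = 145926144000) (hx : ∀ D ∈ Ds, D.Cent S) (hC : ∀ c ∈ Cs, c.Holds S) :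
    Tab S (fun g : S => orderOf g) 145926144000 L (Ds.map PD.fam) Cs B.flatten :=
  Tab.of_primes hN (by norm_num) (by decide +kernel) (by decide +kernel) rfl (by decide +kernel) hx hB hC

variable {lab : S → ℕ}

theorem cl_1 (C : Tab S lab 145926144000 L (Ds.map PD.fam) Cs B.flatten) : Cl S [10, 15, 35, 65, 145] :=
  Cfsg.Agent.H653.Sys.Qk.cl C _ 0
    [⟨0, 0, 0, []⟩]
    [0, 0, -1459261] (by decide +kernel)

/-- **The facts on the degree graph**; `Cs` : known degrees, and primes dividing some degree. -/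
theorem dist_of (C : Tab S lab 145926144000 L (Ds.map PD.fam) Cs B.flatten) (hE : ∀ c ∈ ([[783], [3276], [5]] : List (List ℕ)), Cl S c) :
    DistFacts S := by
  refine C.dist ([[783], [3276], [5]] ++ [[10, 15, 35, 65, 145]]) ?_ (by decide) (by decide +kernel) (by decide)
  intro c hc
  rcases List.mem_append.1 hc with hc | hc
  · exact hE c hc
  simp only [List.mem_cons, List.not_mem_nil, or_false] at hc
  rcases hc with rfl
  · exact cl_1 C

end

end Cfsg.Agent.H653.Spor.Ru
end

-- part: H653/Spor/Ru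
section
set_option linter.all false
open scoped Cfsg.Agent.FastGrp

/-!
# The degree graph of `Ru` (helper653)

The degrees 783 and 3276 of the rank 3 permutation character, a degree divisible by 5, and the column of the elements
of order 29.
-/

set_option autoImplicit false

namespace Cfsg.Agent.H653.Spor.Ru

open Cfsg Cfsg.Agent.Characters.Core Cfsg.Agent.H653.Sys Cfsg.Agent.H653.Sieve Cfsg.Agent.H653.Graph
open Subgroup Cfsg.Agent.SporadicB

universe u

theorem cent_all : ∀ D ∈ Ds, D.Cent RuOrder.H := by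
  have := H436.TwoRu.finite_H
  intro D hD
  simp only [Ds, List.mem_cons, List.not_mem_nil, or_false] at hD
  subst hD
  have hf : Fact (Nat.Prime 29) := ⟨by norm_num⟩
  obtain ⟨x, hx⟩ := exists_prime_orderOf_dvd_card' (G := RuOrder.H) 29 (by rw [RuOrder.card_H]; norm_num)
  refine ⟨x, hx, ?_⟩
  have h1 := H436.TwoRu.cent29 x hx
  have h2 : 29 ∣ Nat.card ↥(centralizer ({x} : Set RuOrder.H)) := by
    have h3 : x ∈ centralizer ({x} : Set RuOrder.H) := mem_centralizer_singleton_iff.2 rfl
    have := Subgroup.orderOf_dvd_natCard _ h3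
    rwa [hx] at this
  exact Nat.dvd_antisymm h1 (by simpa using h2)

theorem im_degs : H33.IM 783 RuOrder.H ∧ H33.IM 3276 RuOrder.H := by
  have := H436.TwoRu.finite_H
  obtain ⟨R, hR⟩ := H690.Spor.Ru.r3
  have h := H671.MFacts.im_of_chkf hR (Or.inl (by decide)) (f0 := 783) (g0 := 3276) rfl (by decide +kernel)
  exact h

theorem facts_H : DistFacts RuOrder.H := by
  classical
  have := H436.TwoRu.finite_H
  have hsim : IsSimpleGroup RuOrder.H := RuSimple.isSimpleGroup_H
  have := finite_irr (G := RuOrder.H)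
  let _ := Fintype.ofFinite (IrrCharacter RuOrder.H)
  obtain ⟨h1, h2⟩ := im_degs
  have h5 : H33.IM 5 RuOrder.H := H870.IMRu.im_five
  refine dist_of (tab RuOrder.card_H cent_all ?_) ?_
  · intro c hc
    simp only [Cs, List.mem_cons, List.not_mem_nil, or_false] at hc
    rcases hc with rfl | rfl | rfl
    · exact condDv_holds h1
    · exact condDv_holds h2
    · exact condDv_holds h5
  · intro c hc
    simp only [List.mem_cons, List.not_mem_nil, or_false] at hc
    rcases hc with rfl | rfl | rfl
    · exact ⟨783, by simp, h1⟩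
    · exact ⟨3276, by simp, h2⟩
    · exact ⟨5, by simp, h5⟩

/-- **The degree graph of `Ru`.** -/
theorem facts {S : Type u} [Group S] (h : Spor.IsoRu S) : DistFacts S := by
  obtain ⟨e⟩ := h
  exact facts_H.of_equiv (e.trans RuLat.Main.equiv)

end Cfsg.Agent.H653.Spor.Ru

private theorem dce_471b418eb251 : _root_.True := by
  try have : _root_.True := by simp only [_root_.Cfsg.Agent.H653.Spor.Ru.Cs.eq_1]
  try have : _root_.True := by simp only [_root_.Cfsg.Agent.H653.Spor.Ru.Ds.eq_1]
  exact _root_.True.intro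
end
end
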